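import Cfsg.Agent.H420.Reduce
import Cfsg.Agent.H510.RadIso

/-!
# Isolated components of the prime graph and the solvable radical (helper510, for S3631)

`isolated` : `Red G K S`, `A` a union of connected components of the prime graph of `G` with `2 ∉ A`, `ρ` a coclique of
at least three primes, two of them greater than 5: the primes of `A` divide `|S|` and divide neither `|K|` nor
`|G/K : S|`.
-/

set_option autoImplicit false

namespace Cfsg.Agent.H510.RedIso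

open Subgroup Cfsg.Agent.H420.QR

universe u

variable {G : Type u} [Group G] [Finite G] {K : Subgroup G} [K.Normal] {S : Subgroup (G ⧸ K)} [S.Normal]

theorem isComp (h : Red G K S) : Cfsg.Agent.H414.Comp.IsComp S := by
  refine ⟨h.simple, ?_, fun g => Or.inl fun s hs => (inferInstance : S.Normal).conj_mem s hs g⟩
  by_contra hcon
  push Not at hcon
  exact h.nonab ⟨⟨hcon⟩⟩

/-- `r ∈ A`, `r ∣ |K|` : `|S| ∣ 120`. -/
theorem card_dvd (h : Red G K S) {A : Set ℕ} (h2 : 2 ∉ A)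
    (hA : ∀ r ∈ A, ∀ s ∉ A, r.Prime → s.Prime → r ∣ Nat.card G → s ∣ Nat.card G → ¬ ∃ x : G, orderOf x = r * s)
    {r : ℕ} (hr : r.Prime) (hrA : r ∈ A) (hrK : r ∣ Nat.card ↥K) : Nat.card ↥S ∣ 120 := by
  refine RadIso.card_dvd_of_isolated K (Cfsg.Agent.H414.Vasiliev.quot_radical K h.solv h.max) h2 ?_ hr hrA hrK S
    h.simple h.nonab
  intro t htA s hsA ht hs hx
  have h1 := hx
  obtain ⟨x, hx⟩ := hx
  have h3 : orderOf x ∣ Nat.card G := orderOf_dvd_natCard x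
  rw [hx] at h3
  exact hA t htA s hsA ht hs ((dvd_mul_right t s).trans h3) ((dvd_mul_left s t).trans h3) h1

/-- **The primes of `A`.** -/
theorem isolated (h : Red G K S) {A : Set ℕ} (h2 : 2 ∉ A)
    (hA : ∀ r ∈ A, ∀ s ∉ A, r.Prime → s.Prime → r ∣ Nat.card G → s ∣ Nat.card G → ¬ ∃ x : G, orderOf x = r * s)
    {ρ : Finset ℕ} (hρ : IsCoq G ρ) (h3 : 3 ≤ ρ.card) {u v : ℕ} (hu : u ∈ ρ) (hv : v ∈ ρ) (huv : u ≠ v)
    (hu5 : 5 < u) (hv5 : 5 < v) :
    ∀ r ∈ A, r.Prime → r ∣ Nat.card G → r ∣ Nat.card ↥S ∧ ¬ r ∣ Nat.card ↥K ∧ ¬ r ∣ S.index := by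
  intro r hrA hr hrG
  have hr2 : r ≠ 2 := by
    rintro rfl
    exact h2 hrA
  have hGns : ¬ Group.IsSolvable G := isCoq_not_solvable hρ h3
  have hnt := Cfsg.Agent.H414.Vasiliev.nontrivial_quot hGns K h.solv
  have hadj : ¬ ∃ x : G, orderOf x = 2 * r := by
    intro hx
    have h2G : 2 ∣ Nat.card G := by
      obtain ⟨x, hx⟩ := hx
      exact (Dvd.intro r hx.symm).trans (orderOf_dvd_natCard x)
    refine hA r hrA 2 h2 hr Nat.prime_two hrG h2G ?_
    rwa [mul_comm]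
  have hrK : ¬ r ∣ Nat.card ↥K := by
    intro hrK
    have h4 := card_dvd h h2 hA hr hrA hrK
    have key : ∀ w ∈ ρ, 5 < w → ¬ w ∣ Nat.card ↥S := by
      intro w hw hw5 hd
      have hwp := hρ.prime w hw
      have h5 : w ∣ 2 ^ 3 * 3 * 5 := hd.trans h4
      rcases hwp.dvd_mul.1 h5 with h6 | h6
      · rcases hwp.dvd_mul.1 h6 with h7 | h7
        · have := (Nat.prime_dvd_prime_iff_eq hwp Nat.prime_two).1 (hwp.dvd_of_dvd_pow h7)
          omega
        · have := (Nat.prime_dvd_prime_iff_eq hwp Nat.prime_three).1 h7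
          omega
      · have := (Nat.prime_dvd_prime_iff_eq hwp Nat.prime_five).1 h6
        omega
    exact huv (h.coc hρ h3 hu hv (key u hu hu5) (key v hv hv5))
  have hrX : r ∣ Nat.card (G ⧸ K) := by
    have h1 : Nat.card G = Nat.card (G ⧸ K) * Nat.card ↥K := Subgroup.card_eq_card_quotient_mul_card_subgroup K
    rw [h1] at hrG
    exact (hr.dvd_mul.1 hrG).resolve_right hrK
  have hadjX : ¬ ∃ x : G ⧸ K, orderOf x = 2 * r := fun hx => hadj
    (Cfsg.Agent.H414.Adj.exists_order_quot K (Nat.mul_ne_zero two_ne_zero hr.ne_zero) hx)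
  obtain ⟨T, hT, hTn, hT1, hT2, hTc⟩ := Cfsg.Agent.H414.Comp.structure_of_dvd
    (Cfsg.Agent.H414.Vasiliev.quot_radical K h.solv h.max) Cfsg.Agent.H414.Vasiliev.good_comp hr hr2 hrX hadjX
  have hTS : T = S := Cfsg.Agent.H414.Comp.eq_of_normal (isComp h) hT inferInstance hTn h.cent
  subst hTS
  exact ⟨hT1, hrK, hT2⟩

/-- The version for the prime graph of `L`. -/
theorem isolated' {L : Type*} [Group L] [Finite L]
    (hL : Set.range (orderOf : G → ℕ) = Set.range (orderOf : L → ℕ)) (h : Red G K S) {A : Set ℕ} (h2 : 2 ∉ A)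
    (hA : ∀ r ∈ A, ∀ s ∉ A, r.Prime → s.Prime → r ∣ Nat.card L → s ∣ Nat.card L → ¬ ∃ x : L, orderOf x = r * s)
    {ρ : Finset ℕ} (hρ : IsCoq L ρ) (h3 : 3 ≤ ρ.card) {u v : ℕ} (hu : u ∈ ρ) (hv : v ∈ ρ) (huv : u ≠ v)
    (hu5 : 5 < u) (hv5 : 5 < v) :
    ∀ r ∈ A, r.Prime → r ∣ Nat.card L → r ∣ Nat.card ↥S ∧ ¬ r ∣ Nat.card ↥K ∧ ¬ r ∣ S.index := by
  have hex : ∀ n : ℕ, (∃ x : G, orderOf x = n) ↔ ∃ x : L, orderOf x = n := by
    intro n
    have : n ∈ Set.range (orderOf : G → ℕ) ↔ n ∈ Set.range (orderOf : L → ℕ) := by rw [hL]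
    exact this
  have hdvd : ∀ p : ℕ, p.Prime → (p ∣ Nat.card G ↔ p ∣ Nat.card L) := by
    intro p hp
    have := Fact.mk hp
    constructor
    · intro hd
      obtain ⟨y, hy⟩ := (hex p).1 (exists_prime_orderOf_dvd_card' p hd)
      rw [← hy]
      exact orderOf_dvd_natCard y
    · intro hd
      obtain ⟨y, hy⟩ := (hex p).2 (exists_prime_orderOf_dvd_card' p hd)
      rw [← hy]
      exact orderOf_dvd_natCard y
  intro r hrA hr hrL
  refine isolated h h2 (fun t ht s hs htp hsp htG hsG hx => ?_)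
    (hρ.of_same (fun r hr hd => (hdvd r hr).2 hd) (fun r s _ _ _ hx => (hex _).1 hx)) h3 hu hv huv hu5 hv5 r hrA hr
    ((hdvd r hr).2 hrL)
  exact hA t ht s hs htp hsp ((hdvd t htp).1 htG) ((hdvd s hsp).1 hsG) ((hex _).1 hx)

end Cfsg.Agent.H510.RedIso
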