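import Mathlib
import Cfsg.Agent.H510.OrbCount

/-!
# Counting conjugacy classes

* `card_conjClasses_le_mul` : `k(G) ≤ |N| k(G/N)`
* `card_conjClasses_centerless` : `p k(G) ≤ |G|` for a nontrivial group with trivial centre, `p` the least
  prime divisor of `|G|`.
-/

set_option autoImplicit false
set_option linter.style.haveILetI false

namespace Cfsg.Agent.H510.ClassCount

open MulAction

variable {G : Type*} [Group G]

/-- `k(G) ≤ |N| k(G/N)` -/
theorem card_conjClasses_le_mul [Finite G] (N : Subgroup G) [N.Normal] :
    Nat.card (ConjClasses G) ≤ Nat.card N * Nat.card (ConjClasses (G ⧸ N)) := by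
  classical
  have hsurj1 : ∀ κ : ConjClasses (G ⧸ N), ∃ x : G, ConjClasses.mk (x : G ⧸ N) = κ := by
    intro κ
    obtain ⟨y, rfl⟩ := ConjClasses.mk_surjective κ
    obtain ⟨x, rfl⟩ := QuotientGroup.mk_surjective y
    exact ⟨x, rfl⟩
  choose rep hrep using hsurj1
  let f : N × ConjClasses (G ⧸ N) → ConjClasses G := fun q => ConjClasses.mk (rep q.2 * q.1)
  have hf : Function.Surjective f := by
    intro c
    obtain ⟨g, rfl⟩ := ConjClasses.mk_surjective c
    have h := hrep (ConjClasses.mk (g : G ⧸ N))
    rw [ConjClasses.mk_eq_mk_iff_isConj, isConj_comm, isConj_iff] at h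
    obtain ⟨t, ht⟩ := h
    obtain ⟨t, rfl⟩ := QuotientGroup.mk_surjective t
    rw [← QuotientGroup.mk_mul, ← QuotientGroup.mk_inv, ← QuotientGroup.mk_mul] at ht
    have h2 := QuotientGroup.eq.1 ht.symm
    refine ⟨(⟨_, h2⟩, ConjClasses.mk (g : G ⧸ N)), ?_⟩
    show ConjClasses.mk (rep (ConjClasses.mk (g : G ⧸ N)) *
      ((rep (ConjClasses.mk (g : G ⧸ N)))⁻¹ * (t * g * t⁻¹))) = _
    rw [mul_inv_cancel_left, ConjClasses.mk_eq_mk_iff_isConj, isConj_comm, isConj_iff]
    exact ⟨t, rfl⟩
  have := Nat.card_le_card_of_surjective f hf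
  rwa [Nat.card_prod] at this

theorem sum_card_centralizer [Fintype G] :
    ∑ x : G, Nat.card (Subgroup.centralizer ({x} : Set G)) = Nat.card (ConjClasses G) * Nat.card G := by
  classical
  rw [← card_comm_eq_card_conjClasses_mul_card]
  have e : (Σ x : G, Subgroup.centralizer ({x} : Set G)) ≃ {p : G × G // Commute p.1 p.2} :=
    { toFun := fun s => ⟨(s.1, s.2.1), (Subgroup.mem_centralizer_singleton_iff.1 s.2.2).symm⟩
      invFun := fun q => ⟨q.1.1, ⟨q.1.2, Subgroup.mem_centralizer_singleton_iff.2 q.2.eq.symm⟩⟩
      left_inv := fun s => rfl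
      right_inv := fun q => rfl }
  rw [← Nat.card_congr e, Nat.card_sigma]

/-- the least prime divisor bounds the relative index of a proper subgroup -/
theorem minFac_le_relIndex [Finite G] {H K : Subgroup G} (h : H < K) :
    (Nat.card G).minFac ≤ H.relIndex K := by
  apply Nat.minFac_le_of_dvd
  · have h0 : H.relIndex K ≠ 0 := by
      intro h0
      have := Subgroup.relIndex_dvd_card (H := H) (K := K)
      rw [h0, zero_dvd_iff] at this
      exact Nat.card_pos.ne' this
    have h1 : H.relIndex K ≠ 1 := by
      rw [Ne, Subgroup.relIndex_eq_one]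
      exact not_le_of_gt h
    omega
  · exact (Subgroup.relIndex_dvd_card (H := H) (K := K)).trans (Subgroup.card_subgroup_dvd_card K)

/-- `p k(G) ≤ |G|` for a nontrivial group with trivial centre -/
theorem card_conjClasses_centerless [Finite G] [Nontrivial G] (hZ : Subgroup.center G = ⊥) :
    (Nat.card G).minFac * Nat.card (ConjClasses G) ≤ Nat.card G := by
  classical
  haveI : Fintype G := Fintype.ofFinite G
  set n := Nat.card G with hn
  set p := n.minFac with hp
  have hn1 : n ≠ 1 := by
    have := Finite.one_lt_card (α := G)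
    omega
  have hpp : p.Prime := Nat.minFac_prime hn1
  have hC : ∀ x : G, x ≠ 1 → p * Nat.card (Subgroup.centralizer ({x} : Set G)) ≤ n := by
    intro x hx
    have hlt : Subgroup.centralizer ({x} : Set G) < ⊤ := by
      rw [lt_top_iff_ne_top]
      intro htop
      apply hx
      rw [← Subgroup.mem_bot, ← hZ, Subgroup.mem_center_iff]
      intro g
      have : g ∈ Subgroup.centralizer ({x} : Set G) := by rw [htop]; trivial
      exact Subgroup.mem_centralizer_singleton_iff.1 this
    have h1 := minFac_le_relIndex hlt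
    rw [Subgroup.relIndex_top_right] at h1
    rw [hn, ← Subgroup.card_mul_index (Subgroup.centralizer ({x} : Set G)), mul_comm]
    exact Nat.mul_le_mul_left _ h1
  have hle : ∀ x : G, p * Nat.card (Subgroup.centralizer ({x} : Set G)) ≤
      (if x = 1 then p * n else n) := by
    intro x
    split_ifs with h
    · apply Nat.mul_le_mul_left
      exact Subgroup.card_le_card_group _
    · exact hC x h
  have hsum := Finset.sum_le_sum (fun x (_ : x ∈ (Finset.univ : Finset G)) => hle x)
  rw [← Finset.mul_sum, sum_card_centralizer, ← Finset.add_sum_erase _ _ (Finset.mem_univ (1 : G)),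
    if_pos rfl] at hsum
  have h2 : ∑ x ∈ Finset.univ.erase (1 : G), (if x = 1 then p * n else n) = (n - 1) * n := by
    rw [Finset.sum_congr rfl (g := fun _ => n)]
    · rw [Finset.sum_const, Finset.card_erase_of_mem (Finset.mem_univ _), Finset.card_univ, smul_eq_mul,
        ← Nat.card_eq_fintype_card]
    · intro x hx
      rw [if_neg (Finset.ne_of_mem_erase hx)]
  rw [h2, ← add_mul, ← hn, ← mul_assoc] at hsum
  have hpos : 0 < n := Nat.card_pos
  have h3 : p * Nat.card (ConjClasses G) ≤ p + (n - 1) := Nat.le_of_mul_le_mul_right hsum hpos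
  obtain ⟨m, hm⟩ : p ∣ n := Nat.minFac_dvd n
  set k := Nat.card (ConjClasses G)
  have hp2 := hpp.two_le
  rw [hm] at h3 ⊢
  by_contra hlt
  have hmk : m < k := by
    by_contra hc
    exact hlt (Nat.mul_le_mul_left _ (by omega))
  have : p * (m + 1) ≤ p * k := Nat.mul_le_mul_left _ hmk
  have hm0 : 0 < p * m := by rw [← hm]; exact hpos
  have h5 : p * (m + 1) = p * m + p := by ring
  omega

/-- the number of orbits of the automorphism group is at most the class number -/
theorem card_orbits_le [Finite G] :
    Nat.card (orbitRel.Quotient (MulAut G) G) ≤ Nat.card (ConjClasses G) := by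
  let f : ConjClasses G → orbitRel.Quotient (MulAut G) G :=
    Quotient.map' id (by
      intro a b hab
      rw [id, id, orbitRel_apply, mem_orbit_iff]
      obtain ⟨c, hc⟩ := isConj_iff.1 (IsConj.symm hab)
      exact ⟨MulAut.conj c, by rw [MulAut.smul_def, MulAut.conj_apply, hc]⟩)
  have hf : Function.Surjective f := by
    intro x
    obtain ⟨y, rfl⟩ := Quotient.mk_surjective x
    exact ⟨ConjClasses.mk y, rfl⟩
  exact Nat.card_le_card_of_surjective f hf

/-- the length of the `Aut(G)`-orbit is at least the length of the conjugacy class -/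
theorem index_centralizer_le [Finite G] (x : G) :
    (Subgroup.centralizer ({x} : Set G)).index ≤ (orbit (MulAut G) x).ncard := by
  rw [← index_stabilizer]
  have h : Subgroup.centralizer ({x} : Set G) = (stabilizer (MulAut G) x).comap MulAut.conj := by
    ext g
    rw [Subgroup.mem_centralizer_singleton_iff, Subgroup.mem_comap, mem_stabilizer_iff,
      MulAut.smul_def, MulAut.conj_apply, mul_inv_eq_iff_eq_mul]
  rw [h, Subgroup.index_comap]
  have : (stabilizer (MulAut G) x).relIndex ⊤ ≠ 0 := by
    rw [Subgroup.relIndex_top_right]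
    exact Subgroup.index_ne_zero_of_finite
  have h2 := Subgroup.relIndex_le_of_le_right (K := (MulAut.conj : G →* MulAut G).range) le_top this
  rwa [Subgroup.relIndex_top_right] at h2

end Cfsg.Agent.H510.ClassCount
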