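import Mathlib
import Cfsg.Agent.H510.ClassCount

/-!
# The number of automorphism orbits of a nonabelian finite group

**`p * #(orbits of Aut(G) on G) ≤ |G|` for a nonabelian finite group `G`, `p` the least prime divisor of
`|G|`.**
-/

set_option autoImplicit false
set_option linter.style.haveILetI false

namespace Cfsg.Agent.H510.AutBound

open MulAction Cfsg.Agent.H510.ClassCount

variable {G : Type*} [Group G] [Finite G]

theorem sq_le_index {H K : Subgroup G} (h1 : H < K) (h2 : K < ⊤) :
    (Nat.card G).minFac * (Nat.card G).minFac ≤ H.index := by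
  rw [← Subgroup.relIndex_mul_index h1.le, ← Subgroup.relIndex_top_right K]
  exact Nat.mul_le_mul (minFac_le_relIndex h1) (minFac_le_relIndex h2)

theorem sq_le_card {H K : Subgroup G} (h1 : ⊥ < H) (h2 : H < K) :
    (Nat.card G).minFac * (Nat.card G).minFac ≤ Nat.card K := by
  rw [← Subgroup.relIndex_bot_left, ← Subgroup.relIndex_mul_relIndex ⊥ H K bot_le h2.le]
  exact Nat.mul_le_mul (minFac_le_relIndex h1) (minFac_le_relIndex h2)

/-- **The final criterion.** -/
theorem criterion {y : G} (hy : y ∉ Subgroup.center G)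
    (h : ∀ g : G, g * y ≠ y * g → (Nat.card G).minFac * (Nat.card G).minFac ≤ (orbit (MulAut G) g).ncard) :
    (Nat.card G).minFac * Nat.card (orbitRel.Quotient (MulAut G) G) ≤ Nat.card G := by
  classical
  have hn1 : Nat.card G ≠ 1 := by
    intro h1
    haveI := (Nat.card_eq_one_iff_unique.1 h1).1
    apply hy
    rw [Subsingleton.elim y 1]
    exact one_mem _
  have hpp := Nat.minFac_prime hn1
  set p := (Nat.card G).minFac with hp
  have hCtop : Subgroup.centralizer ({y} : Set G) < ⊤ := by
    rw [lt_top_iff_ne_top]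
    intro htop
    apply hy
    rw [Subgroup.mem_center_iff]
    intro g
    have : g ∈ Subgroup.centralizer ({y} : Set G) := by rw [htop]; trivial
    exact Subgroup.mem_centralizer_singleton_iff.1 this
  have hZC : Subgroup.center G < Subgroup.centralizer ({y} : Set G) := by
    refine lt_of_le_of_ne (Subgroup.center_le_centralizer _) ?_
    intro he
    apply hy
    rw [he, Subgroup.mem_centralizer_singleton_iff]
  refine OrbCount.orbits_bound p hpp.one_lt.le (Subgroup.center G : Set G) {g | g * y ≠ y * g}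
    ?_ ?_ (fun g hg => h g hg) ?_
  · rw [Set.disjoint_left]
    intro g hg hg'
    exact hg' ((Subgroup.mem_center_iff.1 hg y).symm)
  · intro x hx
    have h1 : Subgroup.centralizer ({x} : Set G) < ⊤ := by
      rw [lt_top_iff_ne_top]
      intro htop
      apply hx
      rw [SetLike.mem_coe, Subgroup.mem_center_iff]
      intro g
      have : g ∈ Subgroup.centralizer ({x} : Set G) := by rw [htop]; trivial
      exact Subgroup.mem_centralizer_singleton_iff.1 this
    have h2 := minFac_le_relIndex h1
    rw [Subgroup.relIndex_top_right] at h2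
    exact h2.trans (index_centralizer_le x)
  · have e1 : {g : G | g * y ≠ y * g} = (Subgroup.centralizer ({y} : Set G) : Set G)ᶜ := by
      ext g
      simp [Subgroup.mem_centralizer_singleton_iff]
    have h1 := minFac_le_relIndex hZC
    have h2 := minFac_le_relIndex hCtop
    rw [Subgroup.relIndex_top_right] at h2
    have h3 := Subgroup.card_mul_index (Subgroup.centralizer ({y} : Set G))
    have h4 : Nat.card (Subgroup.center G) * (Subgroup.center G).relIndex (Subgroup.centralizer ({y} : Set G)) =
        Nat.card (Subgroup.centralizer ({y} : Set G)) := by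
      rw [← Subgroup.relIndex_bot_left, ← Subgroup.relIndex_bot_left,
        Subgroup.relIndex_mul_relIndex _ _ _ bot_le hZC.le]
    have h5 := Set.ncard_add_ncard_compl (Subgroup.centralizer ({y} : Set G) : Set G)
    rw [e1]
    have h6 : (Subgroup.center G : Set G).ncard = Nat.card (Subgroup.center G) :=
      (Nat.card_coe_set_eq _).symm
    have h7 : (Subgroup.centralizer ({y} : Set G) : Set G).ncard =
      Nat.card (Subgroup.centralizer ({y} : Set G)) := (Nat.card_coe_set_eq _).symm
    rw [h6]
    rw [h7] at h5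
    set z := Nat.card (Subgroup.center G)
    set cy := Nat.card (Subgroup.centralizer ({y} : Set G))
    set s := ((Subgroup.centralizer ({y} : Set G) : Set G)ᶜ).ncard
    have h8 : p * z ≤ cy := by
      rw [← h4, mul_comm]
      exact Nat.mul_le_mul_left _ h1
    have h9 : cy * 2 ≤ Nat.card G := by
      rw [← h3]
      exact Nat.mul_le_mul_left _ (hpp.two_le.trans h2)
    omega

theorem zpowers_eq {c w : G} (hc : (orderOf c).Prime) (hw : w ∈ Subgroup.zpowers c) (hw1 : w ≠ 1) :
    Subgroup.zpowers w = Subgroup.zpowers c := by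
  have hle : Subgroup.zpowers w ≤ Subgroup.zpowers c := Subgroup.zpowers_le.2 hw
  apply Subgroup.eq_of_le_of_card_ge hle
  rw [Nat.card_zpowers, Nat.card_zpowers]
  have hd : orderOf w ∣ orderOf c := by
    have := Subgroup.card_dvd_of_le hle
    rwa [Nat.card_zpowers, Nat.card_zpowers] at this
  rcases (Nat.dvd_prime hc).1 hd with h | h
  · exact absurd (orderOf_eq_one_iff.1 h) hw1
  · exact h.ge

/-- first dichotomy -/
theorem dichotomy_prime {x y c : G} (hc : c ∈ Subgroup.center G) (hcp : (orderOf c).Prime)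
    (hxy : y * x * y⁻¹ = c * x) :
    (Nat.card G).minFac * (Nat.card G).minFac ≤ (Subgroup.centralizer ({x} : Set G)).index ∨
      ∀ g : G, ∃ a : ℤ, g * x * g⁻¹ = c ^ a * x := by
  have hcc : ∀ (a : ℤ) (g : G), g * c ^ a = c ^ a * g := fun a g =>
    Subgroup.mem_center_iff.1 (zpow_mem hc a) g
  let N : Subgroup G :=
    { carrier := {g | ∃ a : ℤ, g * x * g⁻¹ = c ^ a * x}
      one_mem' := ⟨0, by simp⟩
      mul_mem' := by
        rintro g h ⟨a, ha⟩ ⟨b, hb⟩
        refine ⟨b + a, ?_⟩
        calc g * h * x * (g * h)⁻¹ = g * (h * x * h⁻¹) * g⁻¹ := by group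
          _ = g * (c ^ b * x) * g⁻¹ := by rw [hb]
          _ = (g * c ^ b) * x * g⁻¹ := by group
          _ = c ^ b * (g * x * g⁻¹) := by rw [hcc]; group
          _ = c ^ (b + a) * x := by rw [ha, zpow_add, mul_assoc]
      inv_mem' := by
        rintro g ⟨a, ha⟩
        refine ⟨-a, ?_⟩
        have : x = g⁻¹ * (c ^ a * x) * g := by rw [← ha]; group
        calc g⁻¹ * x * g⁻¹⁻¹ = c ^ (-a) * (c ^ a * (g⁻¹ * x * g)) := by group
          _ = c ^ (-a) * (g⁻¹ * (c ^ a * x) * g) := by
            congr 1
            rw [← mul_assoc, ← mul_assoc, ← hcc a g⁻¹]; group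
          _ = c ^ (-a) * x := by rw [← this] }
  have hN : ∀ g, g ∈ N ↔ ∃ a : ℤ, g * x * g⁻¹ = c ^ a * x := fun g => Iff.rfl
  have h1 : Subgroup.centralizer ({x} : Set G) < N := by
    refine lt_of_le_of_ne ?_ ?_
    · intro g hg
      rw [Subgroup.mem_centralizer_singleton_iff] at hg
      refine (hN g).2 ⟨0, ?_⟩
      rw [hg]; group
    · intro he
      have : y ∈ N := (hN y).2 ⟨1, by rw [zpow_one, hxy]⟩
      rw [← he, Subgroup.mem_centralizer_singleton_iff] at this
      rw [this, mul_inv_cancel_right, eq_comm, mul_eq_right] at hxy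
      rw [hxy, orderOf_one] at hcp
      exact Nat.not_prime_one hcp
  by_cases htop : N = ⊤
  · right
    intro g
    rw [← hN, htop]; trivial
  · left
    exact sq_le_index h1 (lt_top_iff_ne_top.2 htop)

/-- second dichotomy -/
theorem dichotomy {x y : G} (hy : ∀ g : G, ∃ z ∈ Subgroup.center G, g * y * g⁻¹ = z * y)
    (hxy : x * y ≠ y * x) :
    (Nat.card G).minFac * (Nat.card G).minFac ≤ (Subgroup.centralizer ({x} : Set G)).index ∨
      ∃ c ∈ Subgroup.center G, (orderOf c).Prime ∧ ∀ g : G, ∃ a : ℤ, g * x * g⁻¹ = c ^ a * x := by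
  obtain ⟨z, hz, hzy⟩ := hy x
  -- y⁻¹ acts on x as multiplication by z ... use y x y⁻¹ = z⁻¹ x
  have hyx : y * x * y⁻¹ = z⁻¹ * x := by
    have : x * y = z * y * x := by rw [← hzy]; group
    have h2 : y * x = z⁻¹ * (x * y) := by rw [this]; group
    rw [h2]; group
  have hz1 : z ≠ 1 := by
    rintro rfl
    apply hxy
    rw [one_mul] at hzy
    rw [← mul_inv_eq_iff_eq_mul, hzy]
  set w := z⁻¹ with hw
  have hw1 : w ≠ 1 := by rw [hw]; simpa using hz1
  have hwc : w ∈ Subgroup.center G := inv_mem hz
  -- choose a prime divisor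
  have ho1 : orderOf w ≠ 1 := fun h => hw1 (orderOf_eq_one_iff.1 h)
  set q := (orderOf w).minFac with hq
  have hqp : q.Prime := Nat.minFac_prime ho1
  obtain ⟨m, hm⟩ : q ∣ orderOf w := Nat.minFac_dvd _
  have hm0 : m ≠ 0 := by
    rintro rfl
    rw [mul_zero] at hm
    exact (orderOf_pos w).ne' hm
  have hord : orderOf (w ^ m) = q := by
    rw [orderOf_pow_of_dvd hm0 ⟨q, by rw [hm, mul_comm]⟩, hm, Nat.mul_div_cancel _ (Nat.pos_of_ne_zero hm0)]
  have hconj : ∀ k : ℕ, y ^ k * x * (y ^ k)⁻¹ = w ^ k * x := by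
    intro k
    induction k with
    | zero => simp
    | succ k ih =>
      have hk : y * w ^ k = w ^ k * y := Subgroup.mem_center_iff.1 (pow_mem hwc k) y
      calc y ^ (k + 1) * x * (y ^ (k + 1))⁻¹ = y * (y ^ k * x * (y ^ k)⁻¹) * y⁻¹ := by
            rw [pow_succ']; group
        _ = y * (w ^ k * x) * y⁻¹ := by rw [ih]
        _ = (y * w ^ k) * x * y⁻¹ := by group
        _ = w ^ k * (y * x * y⁻¹) := by rw [hk]; group
        _ = w ^ (k + 1) * x := by rw [hyx, pow_succ, mul_assoc]
  rcases dichotomy_prime (x := x) (y := y ^ m) (c := w ^ m) (pow_mem hwc m) (by rw [hord]; exact hqp)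
    (hconj m) with h | h
  · exact Or.inl h
  · exact Or.inr ⟨w ^ m, pow_mem hwc m, by rw [hord]; exact hqp, h⟩

end Cfsg.Agent.H510.AutBound
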