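import Mathlib
import Cfsg.Agent.H510.AutBound

/-!
# The number of automorphism orbits of a nonabelian finite group, part 2: the automorphisms
-/

set_option autoImplicit false
set_option linter.style.haveILetI false

namespace Cfsg.Agent.H510.AutBound

open MulAction Cfsg.Agent.H510.ClassCount

variable {G : Type*} [Group G] [Finite G]

/-- The automorphism `g ↦ f(a(g)) g`, where `[g, y] = c ^ a(g)`, gives long orbits outside `C(y)`. -/
theorem long_orbits {y c : G} (hc : c ∈ Subgroup.center G) (hcp : (orderOf c).Prime)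
    (hV : ∀ g : G, ∃ a : ℤ, g * y * g⁻¹ = c ^ a * y) (ε : ℤ) (f : ℤ → G)
    (f1 : ∀ a b : ℤ, f (a + b) = f a * f b * c ^ (ε * (a * b)))
    (f2 : ∀ (g : G) (a b : ℤ), g * y * g⁻¹ = c ^ a * y → g * f b * g⁻¹ = c ^ (ε * (a * b)) * f b)
    (f3 : f (orderOf c) = 1) (f4 : ∀ b : ℤ, f b * y = y * f b)
    (f5 : ∀ b : ℤ, f b ∈ Subgroup.zpowers c → ((orderOf c : ℤ)) ∣ b)
    (g : G) (hg : g * y ≠ y * g) :
    (Nat.card G).minFac * (Nat.card G).minFac ≤ (orbit (MulAut G) g).ncard := by
  classical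
  have hcc : ∀ (a : ℤ) (g : G), g * c ^ a = c ^ a * g := fun a g =>
    Subgroup.mem_center_iff.1 (zpow_mem hc a) g
  have hcr : ∀ k : ℤ, c ^ ((orderOf c : ℤ) * k) = 1 := fun k => by
    rw [zpow_mul, zpow_natCast, pow_orderOf_eq_one, one_zpow]
  have f0 : f 0 = 1 := by
    have := f1 0 0
    simp only [add_zero, mul_zero, zpow_zero, mul_one] at this
    exact (mul_eq_left.1 this.symm)
  have fr : ∀ k : ℤ, f ((orderOf c : ℤ) * k) = 1 := by
    have hnat : ∀ k : ℕ, f ((orderOf c : ℤ) * k) = 1 := by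
      intro k
      induction k with
      | zero => simpa using f0
      | succ k ih =>
        rw [Nat.cast_succ, mul_add, mul_one, f1, ih, f3, one_mul, one_mul]
        have : ε * ((orderOf c : ℤ) * k * (orderOf c : ℤ)) = (orderOf c : ℤ) * (ε * k * orderOf c) := by ring
        rw [this, hcr]
    intro k
    rcases Int.eq_nat_or_neg k with ⟨n, rfl | rfl⟩
    · exact hnat n
    · have h := f1 ((orderOf c : ℤ) * n) ((orderOf c : ℤ) * -n)
      have e1 : (orderOf c : ℤ) * n + (orderOf c : ℤ) * -n = 0 := by ring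
      have e2 : ε * ((orderOf c : ℤ) * n * ((orderOf c : ℤ) * -n)) =
        (orderOf c : ℤ) * (ε * n * ((orderOf c : ℤ) * -n)) := by ring
      rw [e1, f0, hnat, e2, hcr, one_mul, mul_one] at h
      exact h.symm
  have fper : ∀ a b : ℤ, c ^ a = c ^ b → f a = f b := by
    intro a b hab
    have : (orderOf c : ℤ) ∣ a - b := by
      rw [orderOf_dvd_iff_zpow_eq_one, zpow_sub, hab, mul_inv_cancel]
    obtain ⟨k, hk⟩ := this
    have ha : a = b + (orderOf c : ℤ) * k := by linarith
    rw [ha, f1, fr, mul_one]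
    have : ε * (b * ((orderOf c : ℤ) * k)) = (orderOf c : ℤ) * (ε * b * k) := by ring
    rw [this, hcr, mul_one]
  choose a ha using hV
  have hmul : ∀ g h : G, c ^ a (g * h) = c ^ (a g + a h) := by
    intro g h
    have h1 : g * h * y * (g * h)⁻¹ = c ^ (a g + a h) * y := by
      calc g * h * y * (g * h)⁻¹ = g * (h * y * h⁻¹) * g⁻¹ := by group
        _ = g * (c ^ a h * y) * g⁻¹ := by rw [ha h]
        _ = (g * c ^ a h) * y * g⁻¹ := by group
        _ = c ^ a h * (g * y * g⁻¹) := by rw [hcc]; group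
        _ = c ^ (a g + a h) * y := by rw [ha g, add_comm, zpow_add, mul_assoc]
    rw [ha (g * h)] at h1
    exact mul_right_cancel h1
  have hcomm : ∀ g : G, g * y = y * g → f (a g) = 1 := by
    intro g hg
    have h1 := ha g
    rw [hg, mul_inv_cancel_right] at h1
    have h2 : c ^ a g = c ^ (0 : ℤ) := by
      rw [zpow_zero]
      exact mul_eq_right.1 h1.symm
    rw [fper _ _ h2, f0]
  let α₀ : G →* G :=
    MonoidHom.mk' (fun g => f (a g) * g) (by
      intro g h
      show f (a (g * h)) * (g * h) = f (a g) * g * (f (a h) * h)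
      rw [fper _ _ (hmul g h), f1]
      have h2 := f2 g (a g) (a h) (ha g)
      calc f (a g) * f (a h) * c ^ (ε * (a g * a h)) * (g * h)
          = f (a g) * (f (a h) * c ^ (ε * (a g * a h))) * (g * h) := by group
        _ = f (a g) * (c ^ (ε * (a g * a h)) * f (a h)) * (g * h) := by rw [hcc]
        _ = f (a g) * (g * f (a h) * g⁻¹) * (g * h) := by rw [h2]
        _ = f (a g) * g * (f (a h) * h) := by group)
  have hα₀ : ∀ g, α₀ g = f (a g) * g := fun g => rfl
  have hinj : Function.Injective α₀ := by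
    rw [injective_iff_map_eq_one]
    intro g hg1
    rw [hα₀] at hg1
    have hginv : g = (f (a g))⁻¹ := mul_eq_one_iff_eq_inv'.1 hg1
    have hgy : g * y = y * g := by
      rw [hginv, inv_mul_eq_iff_eq_mul, ← mul_assoc, f4, mul_inv_cancel_right]
    rw [hcomm g hgy, one_mul] at hg1
    exact hg1
  let α : MulAut G := MulEquiv.ofBijective α₀ (Finite.injective_iff_bijective.1 hinj)
  have hα : ∀ g, α g = f (a g) * g := fun g => rfl
  -- powers of α on g
  set u := f (a g) with hu
  have huy : u * y = y * u := f4 _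
  have hαu : α u = u := by rw [hα, hcomm u huy, one_mul]
  have hαk : ∀ k : ℕ, u ^ k * g ∈ orbit (MulAut G) g := by
    intro k
    induction k with
    | zero => simp
    | succ k ih =>
      have h1 : α • (u ^ k * g) ∈ orbit (MulAut G) g := by
        obtain ⟨β, hβ⟩ := ih
        exact ⟨α * β, by rw [← hβ]; exact mul_smul α β g⟩
      have h2 : α • (u ^ k * g) = u ^ (k + 1) * g := by
        rw [MulAut.smul_def, map_mul, map_pow, hαu, hα, ← hu, pow_succ, mul_assoc]
      rwa [h2] at h1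
  have hyk : ∀ (k : ℕ) (v : G), v * y = y * v → v * g ∈ orbit (MulAut G) g →
      (c ^ (-a g)) ^ k * v * g ∈ orbit (MulAut G) g := by
    intro k v hv hvg
    have h3 : y ^ k * g * (y ^ k)⁻¹ = (c ^ (-a g)) ^ k * g := by
      induction k with
      | zero => simp
      | succ k ih =>
        have h4 : y * g * y⁻¹ = c ^ (-a g) * g := by
          have h5 : g * y = c ^ a g * y * g := by rw [← ha g]; group
          have h6 : y * g = c ^ (-a g) * (g * y) := by rw [h5]; group
          rw [h6]; group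
        calc y ^ (k + 1) * g * (y ^ (k + 1))⁻¹ = y * (y ^ k * g * (y ^ k)⁻¹) * y⁻¹ := by
              rw [pow_succ']; group
          _ = y * ((c ^ (-a g)) ^ k * g) * y⁻¹ := by rw [ih]
          _ = (c ^ (-a g)) ^ k * (y * g * y⁻¹) := by
            have : y * (c ^ (-a g)) ^ k = (c ^ (-a g)) ^ k * y :=
              Subgroup.mem_center_iff.1 (pow_mem (zpow_mem hc _) k) y
            rw [← mul_assoc, this]; group
          _ = (c ^ (-a g)) ^ (k + 1) * g := by rw [h4, pow_succ, mul_assoc]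
    obtain ⟨β, hβ⟩ := hvg
    refine ⟨MulAut.conj (y ^ k) * β, ?_⟩
    have hβ' : β • g = v * g := hβ
    show (MulAut.conj (y ^ k) * β) • g = _
    rw [mul_smul, hβ', MulAut.smul_def, MulAut.conj_apply]
    have h7 : y ^ k * v = v * y ^ k := ((show Commute v y from hv).pow_right k).eq.symm
    have h8 : (c ^ (-a g)) ^ k * v = v * (c ^ (-a g)) ^ k :=
      (Subgroup.mem_center_iff.1 (pow_mem (zpow_mem hc _) k) v).symm
    rw [h8, mul_assoc v, ← h3, ← mul_assoc (y ^ k), h7]
    group
  -- the subgroup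
  have hca : ¬ c ^ a g = 1 := by
    intro h
    apply hg
    have := ha g
    rw [h, one_mul] at this
    rw [← this]
    nth_rewrite 2 [← this]
    group
  have hc1 : c ≠ 1 := by
    rintro rfl
    rw [orderOf_one] at hcp
    exact Nat.not_prime_one hcp
  have hU1 : (⊥ : Subgroup G) < Subgroup.zpowers c := by
    rw [bot_lt_iff_ne_bot, Ne, Subgroup.zpowers_eq_bot]
    exact hc1
  have hU2 : Subgroup.zpowers c < Subgroup.zpowers u ⊔ Subgroup.zpowers c := by
    refine lt_of_le_of_ne le_sup_right ?_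
    intro he
    have hmem : u ∈ Subgroup.zpowers c := by
      rw [he]
      exact Subgroup.mem_sup_left (Subgroup.mem_zpowers u)
    apply hca
    obtain ⟨k, hk⟩ := f5 _ hmem
    rw [hk, hcr]
  refine (sq_le_card hU1 hU2).trans ?_
  haveI hnorm : (Subgroup.zpowers c).Normal := by
    refine ⟨fun n hn g => ?_⟩
    obtain ⟨k, rfl⟩ := Subgroup.mem_zpowers_iff.1 hn
    rw [hcc, mul_inv_cancel_right]
    exact hn
  have hmem : ∀ v ∈ Subgroup.zpowers u ⊔ Subgroup.zpowers c, v * g ∈ orbit (MulAut G) g := by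
    intro v hv
    obtain ⟨s, hs, t, ht, rfl⟩ := Subgroup.mem_sup_of_normal_right.1 hv
    rw [← mem_powers_iff_mem_zpowers] at hs
    obtain ⟨k, rfl⟩ := hs
    have ht' : t ∈ Subgroup.zpowers (c ^ (-a g)) := by
      rw [zpowers_eq hcp (Subgroup.zpow_mem_zpowers c _)]
      · exact ht
      · rw [zpow_neg, Ne, inv_eq_one]
        exact hca
    rw [← mem_powers_iff_mem_zpowers] at ht'
    obtain ⟨l, rfl⟩ := ht'
    have h9 := hyk l (u ^ k) ((show Commute u y from huy).pow_left k).eq (hαk k)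
    have h10 : (c ^ (-a g)) ^ l * u ^ k = u ^ k * (c ^ (-a g)) ^ l :=
      (Subgroup.mem_center_iff.1 (pow_mem (zpow_mem hc _) l) _).symm
    rw [h10] at h9
    exact h9
  have e : Nat.card ↥(Subgroup.zpowers u ⊔ Subgroup.zpowers c) =
      ((fun v => v * g) '' ((Subgroup.zpowers u ⊔ Subgroup.zpowers c : Subgroup G) : Set G)).ncard := by
    rw [Set.ncard_image_of_injective _ (mul_left_injective g)]
    exact Nat.card_coe_set_eq _
  rw [e]
  apply Set.ncard_le_ncard _ (Set.toFinite _)
  rintro _ ⟨v, hv, rfl⟩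
  exact hmem v hv

/-- special pairs: the case of a second central element of order `r` -/
theorem long_orbits_of_central {y c w : G} (hc : c ∈ Subgroup.center G) (hcp : (orderOf c).Prime)
    (hV : ∀ g : G, ∃ a : ℤ, g * y * g⁻¹ = c ^ a * y) (hw : w ∈ Subgroup.center G)
    (hwr : w ^ orderOf c = 1) (hwc : w ∉ Subgroup.zpowers c) (g : G) (hg : g * y ≠ y * g) :
    (Nat.card G).minFac * (Nat.card G).minFac ≤ (orbit (MulAut G) g).ncard := by
  have hcw : ∀ (a : ℤ) (g : G), g * w ^ a = w ^ a * g := fun a g =>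
    Subgroup.mem_center_iff.1 (zpow_mem hw a) g
  refine long_orbits hc hcp hV 0 (fun b => w ^ b) ?_ ?_ ?_ ?_ ?_ g hg
  · intro a b
    simp [zpow_add]
  · intro g a b _
    simp [hcw b g]
  · simpa using hwr
  · intro b
    exact (hcw b y).symm
  · intro b hb
    by_contra hnd
    have h1 : IsCoprime (orderOf c : ℤ) b := by
      rw [Prime.coprime_iff_not_dvd (Nat.prime_iff_prime_int.1 hcp)]
      exact hnd
    obtain ⟨s, t, hst⟩ := h1
    apply hwc
    have : w = (w ^ b) ^ t := by
      calc w = w ^ (s * (orderOf c : ℤ) + t * b) := by rw [hst, zpow_one]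
        _ = (w ^ b) ^ t := by
          rw [zpow_add, mul_comm s, zpow_mul, zpow_natCast, hwr, one_zpow, one_mul, mul_comm t, zpow_mul]
    rw [this]
    exact zpow_mem hb t

/-- special pairs: the transvection -/
theorem long_orbits_of_pow {y c : G} (hc : c ∈ Subgroup.center G) (hcp : (orderOf c).Prime)
    (hV : ∀ g : G, ∃ a : ℤ, g * y * g⁻¹ = c ^ a * y) (hyZ : y ∉ Subgroup.center G)
    (hy : y ^ orderOf c * c ^ (orderOf c * (orderOf c - 1) / 2) = 1) (g : G) (hg : g * y ≠ y * g) :
    (Nat.card G).minFac * (Nat.card G).minFac ≤ (orbit (MulAut G) g).ncard := by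
  have hcc : ∀ (a : ℤ) (g : G), g * c ^ a = c ^ a * g := fun a g =>
    Subgroup.mem_center_iff.1 (zpow_mem hc a) g
  have hev : ∀ b : ℤ, b * (b - 1) / 2 * 2 = b * (b - 1) := fun b =>
    Int.ediv_mul_cancel (Int.even_mul_pred_self b).two_dvd
  refine long_orbits hc hcp hV 1 (fun b => y ^ b * c ^ (b * (b - 1) / 2)) ?_ ?_ ?_ ?_ ?_ g hg
  · intro a b
    have h1 : (a + b) * (a + b - 1) / 2 = a * (a - 1) / 2 + b * (b - 1) / 2 + a * b := by
      have h2 := hev a
      have h3 := hev b
      have h4 := hev (a + b)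
      nlinarith
    show y ^ (a + b) * c ^ ((a + b) * (a + b - 1) / 2) = y ^ a * c ^ (a * (a - 1) / 2) *
      (y ^ b * c ^ (b * (b - 1) / 2)) * c ^ (1 * (a * b))
    rw [h1, zpow_add, zpow_add, zpow_add, one_mul]
    calc y ^ a * y ^ b * (c ^ (a * (a - 1) / 2) * c ^ (b * (b - 1) / 2) * c ^ (a * b))
        = y ^ a * (y ^ b * c ^ (a * (a - 1) / 2)) * c ^ (b * (b - 1) / 2) * c ^ (a * b) := by group
      _ = y ^ a * (c ^ (a * (a - 1) / 2) * y ^ b) * c ^ (b * (b - 1) / 2) * c ^ (a * b) := by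
        rw [hcc (a * (a - 1) / 2) (y ^ b)]
      _ = _ := by group
  · intro g a b hab
    show g * (y ^ b * c ^ (b * (b - 1) / 2)) * g⁻¹ = c ^ (1 * (a * b)) * (y ^ b * c ^ (b * (b - 1) / 2))
    have h1 : g * y ^ b * g⁻¹ = c ^ (a * b) * y ^ b := by
      rw [← conj_zpow, hab, (show Commute (c ^ a) y from (hcc a y).symm).mul_zpow, ← zpow_mul]
    calc g * (y ^ b * c ^ (b * (b - 1) / 2)) * g⁻¹ = g * y ^ b * (c ^ (b * (b - 1) / 2) * g⁻¹) := by group
      _ = g * y ^ b * (g⁻¹ * c ^ (b * (b - 1) / 2)) := by rw [hcc]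
      _ = (g * y ^ b * g⁻¹) * c ^ (b * (b - 1) / 2) := by group
      _ = _ := by rw [h1, one_mul, mul_assoc]
  · have h1 : ((orderOf c : ℤ)) * ((orderOf c : ℤ) - 1) / 2 = ((orderOf c * (orderOf c - 1) / 2 : ℕ) : ℤ) := by
      have : 1 ≤ orderOf c := hcp.one_lt.le
      push_cast [Nat.cast_sub this]
      rfl
    show y ^ (orderOf c : ℤ) * c ^ ((orderOf c : ℤ) * ((orderOf c : ℤ) - 1) / 2) = 1
    rw [h1, zpow_natCast, zpow_natCast]
    exact hy
  · intro b
    show y ^ b * c ^ (b * (b - 1) / 2) * y = y * (y ^ b * c ^ (b * (b - 1) / 2))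
    rw [mul_assoc, ← hcc, ← mul_assoc, ← mul_assoc, ← zpow_add_one, ← zpow_one_add, add_comm]
  · intro b hb
    by_contra hnd
    have h1 : IsCoprime (orderOf c : ℤ) b := by
      rw [Prime.coprime_iff_not_dvd (Nat.prime_iff_prime_int.1 hcp)]
      exact hnd
    obtain ⟨s, t, hst⟩ := h1
    have hyb : y ^ b ∈ Subgroup.center G := by
      have h2 : y ^ b = (y ^ b * c ^ (b * (b - 1) / 2)) * (c ^ (b * (b - 1) / 2))⁻¹ := by group
      rw [h2]
      refine mul_mem ?_ (inv_mem (zpow_mem hc _))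
      exact (Subgroup.zpowers_le.2 hc) hb
    have hyr : y ^ orderOf c ∈ Subgroup.center G := by
      rw [mul_eq_one_iff_eq_inv.1 hy]
      exact inv_mem (pow_mem hc _)
    apply hyZ
    have : y = (y ^ orderOf c) ^ s * (y ^ b) ^ t := by
      calc y = y ^ (s * (orderOf c : ℤ) + t * b) := by rw [hst, zpow_one]
        _ = _ := by
          rw [zpow_add, mul_comm s, zpow_mul, zpow_natCast, mul_comm t, zpow_mul]
    rw [this]
    exact mul_mem (zpow_mem hyr _) (zpow_mem hyb _)

end Cfsg.Agent.H510.AutBound
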