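import Mathlib
import Cfsg.Agent.H510.AutBound2

/-!
# The number of automorphism orbits of a nonabelian finite group, part 3

**`p * #(orbits of Aut(G) on G) ≤ |G|` for a nonabelian finite group `G`, `p` the least prime divisor of
`|G|`.**
-/

set_option autoImplicit false
set_option linter.style.haveILetI false

namespace Cfsg.Agent.H510.AutBound

open MulAction Cfsg.Agent.H510.ClassCount

variable {G : Type*} [Group G] [Finite G]

theorem tri_succ (n : ℕ) : (n + 1) * (n + 1 - 1) / 2 = n * (n - 1) / 2 + n := by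
  have h1 : 2 ∣ n * (n - 1) := (Nat.even_mul_pred_self n).two_dvd
  have h2 : 2 ∣ (n + 1) * (n + 1 - 1) := (Nat.even_mul_pred_self (n + 1)).two_dvd
  obtain ⟨a, ha⟩ := h1
  obtain ⟨b, hb⟩ := h2
  rw [ha, hb, Nat.mul_div_cancel_left _ (by norm_num), Nat.mul_div_cancel_left _ (by norm_num)]
  have h3 : (n + 1) * (n + 1 - 1) = n * (n - 1) + 2 * n := by
    cases n with
    | zero => simp
    | succ m => simp only [Nat.add_sub_cancel]; ring
  omega

omit [Finite G] in
/-- the power formula of class two -/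
theorem mul_pow_class_two {v w z : G} (hz : z ∈ Subgroup.center G) (h : w * v = z * (v * w)) (n : ℕ) :
    (v * w) ^ n = v ^ n * w ^ n * z ^ (n * (n - 1) / 2) := by
  have hcc : ∀ (a : ℕ) (g : G), g * z ^ a = z ^ a * g := fun a g =>
    Subgroup.mem_center_iff.1 (pow_mem hz a) g
  have h1 : ∀ n : ℕ, w ^ n * v = z ^ n * (v * w ^ n) := by
    intro n
    induction n with
    | zero => simp
    | succ n ih =>
      calc w ^ (n + 1) * v = w * (w ^ n * v) := by rw [pow_succ']; group
        _ = w * (z ^ n * (v * w ^ n)) := by rw [ih]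
        _ = (w * z ^ n) * (v * w ^ n) := by group
        _ = z ^ n * (w * v) * w ^ n := by rw [hcc]; group
        _ = z ^ n * (z * (v * w)) * w ^ n := by rw [h]
        _ = z ^ (n + 1) * (v * w ^ (n + 1)) := by rw [pow_succ z, pow_succ' w]; group
  induction n with
  | zero => simp
  | succ n ih =>
    rw [tri_succ, pow_add z]
    calc (v * w) ^ (n + 1) = (v * w) ^ n * (v * w) := pow_succ _ _
      _ = v ^ n * w ^ n * z ^ (n * (n - 1) / 2) * (v * w) := by rw [ih]
      _ = v ^ n * w ^ n * (z ^ (n * (n - 1) / 2) * (v * w)) := by group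
      _ = v ^ n * w ^ n * ((v * w) * z ^ (n * (n - 1) / 2)) := by rw [hcc]
      _ = v ^ n * (w ^ n * v) * w * z ^ (n * (n - 1) / 2) := by group
      _ = v ^ n * (z ^ n * (v * w ^ n)) * w * z ^ (n * (n - 1) / 2) := by rw [h1]
      _ = (v ^ n * z ^ n) * (v * w ^ n * w) * z ^ (n * (n - 1) / 2) := by group
      _ = (z ^ n * v ^ n) * (v * w ^ n * w) * z ^ (n * (n - 1) / 2) := by rw [hcc n (v ^ n)]
      _ = z ^ n * (v ^ (n + 1) * w ^ (n + 1) * z ^ (n * (n - 1) / 2)) := by
        rw [pow_succ v, pow_succ w]; group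
      _ = (v ^ (n + 1) * w ^ (n + 1) * z ^ (n * (n - 1) / 2)) * z ^ n := by rw [← hcc n (_ * _)]
      _ = _ := by rw [mul_assoc (v ^ (n + 1) * w ^ (n + 1))]

omit [Finite G] in
theorem conj_mul_pow {u x c : G} (hc : c ∈ Subgroup.center G) (h : u * x * u⁻¹ = c * x) (k : ℕ) :
    u * x ^ k * u⁻¹ = c ^ k * x ^ k := by
  have h1 : Commute c x := (Subgroup.mem_center_iff.1 hc x).symm
  rw [← conj_pow, h, h1.mul_pow]

/-- **Existence of a good noncentral element.** -/
theorem exists_good {u x c : G} (hc : c ∈ Subgroup.center G) (hcp : (orderOf c).Prime)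
    (hux : u * x * u⁻¹ = c * x)
    (hu : ∀ g : G, ∃ a : ℤ, g * u * g⁻¹ = c ^ a * u) (hx : ∀ g : G, ∃ a : ℤ, g * x * g⁻¹ = c ^ a * x)
    (hw : ∀ w ∈ Subgroup.center G, w ^ orderOf c = 1 → w ∈ Subgroup.zpowers c) :
    ∃ y : G, y ∉ Subgroup.center G ∧ (∀ g : G, ∃ a : ℤ, g * y * g⁻¹ = c ^ a * y) ∧
      y ^ orderOf c * c ^ (orderOf c * (orderOf c - 1) / 2) = 1 := by
  classical
  set r := orderOf c with hr
  set t := r * (r - 1) / 2 with ht
  have hcc : ∀ (a : ℤ) (g : G), g * c ^ a = c ^ a * g := fun a g =>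
    Subgroup.mem_center_iff.1 (zpow_mem hc a) g
  -- the elements V
  let V : Subgroup G :=
    { carrier := {v | ∀ g : G, ∃ a : ℤ, g * v * g⁻¹ = c ^ a * v}
      one_mem' := fun g => ⟨0, by simp⟩
      mul_mem' := by
        intro v w hv hw g
        obtain ⟨a, ha⟩ := hv g
        obtain ⟨b, hb⟩ := hw g
        refine ⟨a + b, ?_⟩
        calc g * (v * w) * g⁻¹ = (g * v * g⁻¹) * (g * w * g⁻¹) := by group
          _ = c ^ a * (v * c ^ b) * w := by rw [ha, hb]; group
          _ = c ^ (a + b) * (v * w) := by rw [hcc, zpow_add]; group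
      inv_mem' := by
        intro v hv g
        obtain ⟨a, ha⟩ := hv g
        refine ⟨-a, ?_⟩
        calc g * v⁻¹ * g⁻¹ = (g * v * g⁻¹)⁻¹ := by group
          _ = v⁻¹ * c ^ (-a) := by rw [ha]; group
          _ = c ^ (-a) * v⁻¹ := by rw [hcc] }
  have hV : ∀ v, v ∈ V ↔ ∀ g : G, ∃ a : ℤ, g * v * g⁻¹ = c ^ a * v := fun v => Iff.rfl
  have huV : u ∈ V := hu
  have hxV : x ∈ V := hx
  have hT : ∀ v ∈ V, v ^ r * c ^ t ∈ Subgroup.center G := by
    intro v hv
    refine mul_mem ?_ (pow_mem hc _)
    rw [Subgroup.mem_center_iff]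
    intro g
    obtain ⟨a, ha⟩ := hv g
    have h1 : g * v ^ r * g⁻¹ = v ^ r := by
      rw [← conj_pow, ha, (show Commute (c ^ a) v from (hcc a v).symm).mul_pow, ← zpow_natCast,
        ← zpow_mul, mul_comm a, zpow_mul, zpow_natCast, hr, pow_orderOf_eq_one, one_zpow, one_mul]
    rw [mul_inv_eq_iff_eq_mul] at h1
    exact h1
  let T : V → Subgroup.center G := fun v => ⟨(v : G) ^ r * c ^ t, hT v v.2⟩
  have hZcomm : ∀ a b : Subgroup.center G, a * b = b * a := fun a b =>
    Subtype.ext (Subgroup.mem_center_iff.1 b.2 a)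
  let φ : Subgroup.center G →* Subgroup.center G :=
    MonoidHom.mk' (fun w => w ^ r) (fun a b => (show Commute a b from hZcomm a b).mul_pow r)
  haveI hφn : φ.range.Normal := ⟨fun n hn g => by rw [hZcomm g n, mul_inv_cancel_right]; exact hn⟩
  have hker : Nat.card φ.ker ≤ r := by
    have h1 : Nat.card (Subgroup.zpowers c) = r := Nat.card_zpowers c
    rw [← h1]
    refine Nat.card_le_card_of_injective (fun w : φ.ker => (⟨((w : Subgroup.center G) : G), ?_⟩ :
      Subgroup.zpowers c)) ?_
    · apply hw _ (w : Subgroup.center G).2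
      have := w.2
      rw [MonoidHom.mem_ker] at this
      simpa [φ] using congrArg Subtype.val this
    · intro a b hab
      apply Subtype.ext
      apply Subtype.ext
      simpa using hab
  have hidx : Nat.card (Subgroup.center G ⧸ φ.range) ≤ r := by
    rw [← Subgroup.index_eq_card, Subgroup.index_range]
    exact hker
  -- reduction to `T v ∈ range φ`
  suffices h : ∃ v : V, (v : G) ∉ Subgroup.center G ∧ T v ∈ φ.range by
    obtain ⟨v, hvZ, w, hwv⟩ := h
    have hwc : (w : G) ∈ Subgroup.center G := w.2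
    have hwv' : (w : G) ^ r = (v : G) ^ r * c ^ t := by
      simpa [φ, T] using congrArg Subtype.val hwv
    refine ⟨(v : G) * (w : G)⁻¹, ?_, ?_, ?_⟩
    · intro h
      apply hvZ
      have := mul_mem h hwc
      simpa using this
    · refine mul_mem (S := Subgroup G) (s := V) v.2 ?_
      refine inv_mem ?_
      intro g
      refine ⟨0, ?_⟩
      rw [Subgroup.mem_center_iff.1 hwc g]; group
    · have hcomm : Commute (v : G) (w : G)⁻¹ := by
        exact (Subgroup.mem_center_iff.1 (inv_mem hwc) v)
      have h1 : (v : G) ^ r * c ^ t = c ^ t * (v : G) ^ r :=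
        Subgroup.mem_center_iff.1 (pow_mem hc t) _
      rw [hcomm.mul_pow, inv_pow, hwv', h1, mul_inv_rev, ← mul_assoc, mul_inv_cancel, one_mul,
        inv_mul_cancel]
  have hr0 : 0 < r := hcp.pos
  have hc1 : c ≠ 1 := by
    rintro rfl
    rw [hr, orderOf_one] at hcp
    exact Nat.not_prime_one hcp
  let xV : V := ⟨x, hxV⟩
  let uV : V := ⟨u, huV⟩
  let F : Fin (r + 1) → Subgroup.center G ⧸ φ.range := fun i =>
    if (i : ℕ) = 0 then 1 else QuotientGroup.mk (T (uV * xV ^ (i : ℕ)))
  have hnoninj : ¬ Function.Injective F := by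
    intro hinj
    have := Nat.card_le_card_of_injective F hinj
    rw [Nat.card_eq_fintype_card, Fintype.card_fin] at this
    omega
  -- noncentrality
  have hnc : ∀ k : ℕ, u * x ^ k ∉ Subgroup.center G := by
    intro k hk
    have h1 := Subgroup.mem_center_iff.1 hk x
    -- x (u x^k) = (u x^k) x
    have h2 : x * u = u * x := by
      have h3 : x * u * x ^ k = u * x * x ^ k := by
        rw [mul_assoc, h1, mul_assoc, mul_assoc, ← pow_succ, ← pow_succ']
      exact mul_right_cancel h3
    rw [← h2, mul_inv_cancel_right, eq_comm, mul_eq_right] at hux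
    exact hc1 hux
  obtain ⟨i, j, hij, hne⟩ : ∃ i j : Fin (r + 1), F i = F j ∧ (i : ℕ) < (j : ℕ) := by
    rw [Function.Injective] at hnoninj
    push Not at hnoninj
    obtain ⟨i, j, h1, h2⟩ := hnoninj
    rcases lt_trichotomy (i : ℕ) (j : ℕ) with h | h | h
    · exact ⟨i, j, h1, h⟩
    · exact absurd (Fin.ext h) h2
    · exact ⟨j, i, h1.symm, h⟩
  have hj0 : (j : ℕ) ≠ 0 := by omega
  by_cases hi0 : (i : ℕ) = 0
  · refine ⟨uV * xV ^ (j : ℕ), hnc j, ?_⟩
    simp only [F, hi0, hj0, if_true, if_false] at hij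
    rw [← QuotientGroup.eq_one_iff]
    exact hij.symm
  · simp only [F, hi0, hj0, if_false] at hij
    set k := (j : ℕ) - (i : ℕ) with hk
    have hk0 : 0 < k := by omega
    have hkr : k < r := by
      have := j.2
      omega
    have hckne : c ^ k ≠ 1 := by
      intro h
      have := Nat.le_of_dvd hk0 (orderOf_dvd_of_pow_eq_one h)
      omega
    refine ⟨xV ^ k, ?_, ?_⟩
    · intro h
      have h1 := Subgroup.mem_center_iff.1 h u
      have h2 := conj_mul_pow hc hux k
      have h3 : u * x ^ k = x ^ k * u := h1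
      rw [h3, mul_inv_cancel_right, eq_comm, mul_eq_right] at h2
      exact hckne h2
    · -- T (u x^j) = T (u x^i) * T (x^k)
      have hkey : T (uV * xV ^ (j : ℕ)) = T (uV * xV ^ (i : ℕ)) * T (xV ^ k) := by
        apply Subtype.ext
        show (u * x ^ (j : ℕ)) ^ r * c ^ t = ((u * x ^ (i : ℕ)) ^ r * c ^ t) * ((x ^ k) ^ r * c ^ t)
        have hjk : x ^ (j : ℕ) = x ^ (i : ℕ) * x ^ k := by
          rw [← pow_add]; congr 1; omega
        have hz : x ^ k * (u * x ^ (i : ℕ)) = (c ^ k)⁻¹ * ((u * x ^ (i : ℕ)) * x ^ k) := by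
          have h2 := conj_mul_pow hc hux k
          have h3 : u * x ^ k = c ^ k * x ^ k * u := by rw [← h2]; group
          calc x ^ k * (u * x ^ (i : ℕ)) = (c ^ k)⁻¹ * (c ^ k * x ^ k * u) * x ^ (i : ℕ) := by group
            _ = (c ^ k)⁻¹ * (u * x ^ k) * x ^ (i : ℕ) := by rw [h3]
            _ = (c ^ k)⁻¹ * (u * (x ^ k * x ^ (i : ℕ))) := by group
            _ = (c ^ k)⁻¹ * (u * (x ^ (i : ℕ) * x ^ k)) := by rw [← pow_add, ← pow_add, add_comm]
            _ = _ := by group
        have hzc : (c ^ k)⁻¹ ∈ Subgroup.center G := inv_mem (pow_mem hc k)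
        have hpow := mul_pow_class_two hzc hz r
        have hzt : ((c ^ k)⁻¹) ^ t = c ^ t := by
          rcases hcp.eq_two_or_odd' with h2 | hodd
          · have hk1 : k = 1 := by omega
            have ht1 : t = 1 := by rw [ht, h2]
            have hcc2 : c * c = 1 := by
              rw [← pow_two, ← h2, hr, pow_orderOf_eq_one]
            rw [hk1, ht1, pow_one, pow_one]
            exact inv_eq_of_mul_eq_one_left hcc2
          · have hrt : r ∣ t := by
              obtain ⟨m, hm⟩ := hodd
              refine ⟨m, ?_⟩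
              rw [ht]
              have : r * (r - 1) = (r * m) * 2 := by
                have : r - 1 = 2 * m := by omega
                rw [this]; ring
              rw [this, Nat.mul_div_cancel _ (by norm_num)]
            obtain ⟨m, hm⟩ := hrt
            have hct : c ^ t = 1 := by rw [hm, pow_mul, hr, pow_orderOf_eq_one, one_pow]
            rw [inv_pow, ← pow_mul, mul_comm k t, pow_mul, hct, one_pow, inv_one]
        have hc1' : (x ^ k) ^ r * c ^ t = c ^ t * (x ^ k) ^ r :=
          Subgroup.mem_center_iff.1 (pow_mem hc t) _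
        rw [hjk, ← mul_assoc u, hpow, ← ht, hzt, mul_assoc, mul_assoc, mul_assoc, hc1',
          ← mul_assoc (c ^ t) (c ^ t), ← mul_assoc _ (c ^ t) (c ^ t), hc1', mul_assoc, hc1', ← mul_assoc]
        simp only [mul_assoc]
      rw [hkey, QuotientGroup.mk_mul] at hij
      rw [← QuotientGroup.eq_one_iff]
      exact (mul_eq_left.1 hij.symm)

/-- **Main theorem.** -/
theorem main (hna : ¬ IsMulCommutative G) :
    (Nat.card G).minFac * Nat.card (orbitRel.Quotient (MulAut G) G) ≤ Nat.card G := by
  classical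
  have hZtop : Subgroup.center G ≠ ⊤ := by
    intro h
    apply hna
    refine ⟨⟨fun a b => ?_⟩⟩
    have : b ∈ Subgroup.center G := by rw [h]; trivial
    exact Subgroup.mem_center_iff.1 this a
  by_cases hZ2 : Subgroup.center (G ⧸ Subgroup.center G) = ⊥
  · -- the quotient by the centre has trivial centre
    haveI : Nontrivial (G ⧸ Subgroup.center G) := by
      rw [QuotientGroup.nontrivial_iff]
      exact hZtop
    have h1 := card_conjClasses_centerless hZ2
    have h2 := card_conjClasses_le_mul (Subgroup.center G)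
    have h3 := card_orbits_le (G := G)
    have h4 : (Nat.card G).minFac ≤ (Nat.card (G ⧸ Subgroup.center G)).minFac := by
      apply Nat.minFac_le_of_dvd
      · have := Finite.one_lt_card (α := G ⧸ Subgroup.center G)
        exact (Nat.minFac_prime (by omega)).two_le
      · refine (Nat.minFac_dvd _).trans ?_
        rw [← Subgroup.index_eq_card]
        exact Subgroup.index_dvd_card _
    calc (Nat.card G).minFac * Nat.card (orbitRel.Quotient (MulAut G) G)
        ≤ (Nat.card (G ⧸ Subgroup.center G)).minFac *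
          (Nat.card (Subgroup.center G) * Nat.card (ConjClasses (G ⧸ Subgroup.center G))) :=
          Nat.mul_le_mul h4 (h3.trans h2)
      _ = Nat.card (Subgroup.center G) * ((Nat.card (G ⧸ Subgroup.center G)).minFac *
          Nat.card (ConjClasses (G ⧸ Subgroup.center G))) := by ring
      _ ≤ Nat.card (Subgroup.center G) * Nat.card (G ⧸ Subgroup.center G) := Nat.mul_le_mul_left _ h1
      _ = Nat.card G := by rw [← Subgroup.index_eq_card, Subgroup.card_mul_index]
  · -- an element of the second centre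
    obtain ⟨⟨ybar, hybar⟩, hy1⟩ := Subgroup.ne_bot_iff_exists_ne_one.1 hZ2
    obtain ⟨y, rfl⟩ := QuotientGroup.mk_surjective ybar
    have hyZ : y ∉ Subgroup.center G := by
      intro h
      apply hy1
      apply Subtype.ext
      exact (QuotientGroup.eq_one_iff y).2 h
    have hy : ∀ g : G, ∃ z ∈ Subgroup.center G, g * y * g⁻¹ = z * y := by
      intro g
      have h := Subgroup.mem_center_iff.1 hybar (g : G ⧸ Subgroup.center G)
      rw [← QuotientGroup.mk_mul, ← QuotientGroup.mk_mul] at h
      have h2 := QuotientGroup.eq.1 h.symm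
      -- (y g)⁻¹ (g y) ∈ Z
      refine ⟨(y * g)⁻¹ * (g * y), h2, ?_⟩
      have h3 := Subgroup.mem_center_iff.1 h2 (y * g)
      have h4 : (y * g)⁻¹ * (g * y) * (y * g) = g * y := by rw [← h3]; group
      calc g * y * g⁻¹ = (y * g)⁻¹ * (g * y) * (y * g) * g⁻¹ := by rw [h4]
        _ = (y * g)⁻¹ * (g * y) * y := by group
    by_cases hlong : ∀ g : G, g * y ≠ y * g →
        (Nat.card G).minFac * (Nat.card G).minFac ≤ (orbit (MulAut G) g).ncard
    · exact criterion hyZ hlong
    push Not at hlong
    obtain ⟨x, hxy, hx⟩ := hlong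
    obtain ⟨c, hc, hcp, hcx⟩ := (dichotomy hy hxy).resolve_left (by
      intro h
      exact absurd (h.trans (index_centralizer_le x)) (not_le.2 hx))
    have hxZ : x ∉ Subgroup.center G := fun h => hxy ((Subgroup.mem_center_iff.1 h y).symm)
    by_cases hlong2 : ∀ g : G, g * x ≠ x * g →
        (Nat.card G).minFac * (Nat.card G).minFac ≤ (orbit (MulAut G) g).ncard
    · exact criterion hxZ hlong2
    push Not at hlong2
    obtain ⟨u, hux, hu⟩ := hlong2
    obtain ⟨d, hd, hdp, hdu⟩ := (dichotomy (x := u) (y := x) (fun g => by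
        obtain ⟨a, ha⟩ := hcx g
        exact ⟨c ^ a, zpow_mem hc a, ha⟩) hux).resolve_left (by
      intro h
      exact absurd (h.trans (index_centralizer_le u)) (not_le.2 hu))
    -- the common commutator
    obtain ⟨a, ha⟩ := hcx u
    obtain ⟨b, hb⟩ := hdu x
    set e := c ^ a with he
    have he1 : e ≠ 1 := by
      intro h
      rw [h, one_mul] at ha
      exact hux (by rw [← mul_inv_eq_iff_eq_mul, ha])
    have hed : e⁻¹ = d ^ b := by
      have h1 : u * x = e * x * u := by rw [← ha]; group
      have h2 : x * u = d ^ b * u * x := by rw [← hb]; group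
      have h3 : x * u = e⁻¹ * (u * x) := by rw [h1]; group
      rw [h3, mul_assoc] at h2
      exact mul_right_cancel h2
    have hecz : Subgroup.zpowers e = Subgroup.zpowers c :=
      zpowers_eq hcp (Subgroup.zpow_mem_zpowers c a) he1
    have hedz : Subgroup.zpowers e = Subgroup.zpowers d := by
      rw [← Subgroup.zpowers_inv, hed]
      apply zpowers_eq hdp (Subgroup.zpow_mem_zpowers d b)
      rw [← hed]
      simpa using he1
    have heZ : e ∈ Subgroup.center G := zpow_mem hc a
    have hep : (orderOf e).Prime := by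
      rw [← Nat.card_zpowers, hecz, Nat.card_zpowers]
      exact hcp
    have hxe : ∀ g : G, ∃ m : ℤ, g * x * g⁻¹ = e ^ m * x := by
      intro g
      obtain ⟨m, hm⟩ := hcx g
      have : c ^ m ∈ Subgroup.zpowers e := by rw [hecz]; exact Subgroup.zpow_mem_zpowers c m
      obtain ⟨l, hl⟩ := Subgroup.mem_zpowers_iff.1 this
      exact ⟨l, by rw [hm, hl]⟩
    have hue : ∀ g : G, ∃ m : ℤ, g * u * g⁻¹ = e ^ m * u := by
      intro g
      obtain ⟨m, hm⟩ := hdu g
      have : d ^ m ∈ Subgroup.zpowers e := by rw [hedz]; exact Subgroup.zpow_mem_zpowers d m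
      obtain ⟨l, hl⟩ := Subgroup.mem_zpowers_iff.1 this
      exact ⟨l, by rw [hm, hl]⟩
    by_cases hw : ∀ w ∈ Subgroup.center G, w ^ orderOf e = 1 → w ∈ Subgroup.zpowers e
    · obtain ⟨v, hvZ, hvV, hvT⟩ := exists_good heZ hep ha hue hxe hw
      exact criterion hvZ (fun g hg => long_orbits_of_pow heZ hep hvV hvZ hvT g hg)
    · push Not at hw
      obtain ⟨w, hwZ, hwr, hwe⟩ := hw
      exact criterion hxZ (fun g hg => long_orbits_of_central heZ hep hxe hwZ hwr hwe g hg)

end Cfsg.Agent.H510.AutBound
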