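import Cfsg.Agent.H510.TwoChar

/-!
# Tool V for the group `2¹¹` of `Fi₂₃` and `Fi₂₄'` (helper510, HUB H1 part P11)

`Ball b` : `V` is elementary abelian of order `2¹¹` and every element is a product of at most three of the 23 elements
`b i` (perfect Golay code). For an action of `V` on a finite set such that `b i`, `b i b j`, `b i b j b k` (distinct
indices) have `f₁`, `f₂`, `f₃` fixed points, there are natural numbers `m₀ m₇ m₁ m₉` with
`2048 m₀ = n + 23 f₁ + 253 f₂ + 1771 f₃`, `2048 m₇ = n + 7 f₁ + 13 f₂ - 21 f₃`, `2048 m₁ = n - f₁ - 11 f₂ + 11 f₃`,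
`2048 m₉ = n - 9 f₁ + 29 f₂ - 21 f₃`; hence `n = m₀ + 506 m₇ + 1288 m₁ + 253 m₉` and
`n - f₁ = 352 (m₇ + m₉) + 1344 m₁`.
-/

set_option autoImplicit false

namespace Cfsg.Agent.H510.TwoBall

open MulAction Finset Cfsg.Agent.H510.TwoChar

/-- every element is a product of at most three of the `b i` -/
structure Ball {V : Type*} [Group V] (b : Fin 23 → V) : Prop where
  sq : ∀ x : V, x * x = 1
  card : Nat.card V = 2 ^ 11
  shape : ∀ x : V, x = 1 ∨ (∃ i, x = b i) ∨ (∃ i j, x = b i * b j) ∨ ∃ i j k, x = b i * b j * b k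

/-- the subsets with at most three elements -/
def P : Finset (Finset (Fin 23)) := (range 4).biUnion fun k => powersetCard k univ

theorem card_P : P.card = 2048 := by
  rw [P, card_biUnion]
  · simp only [card_powersetCard, card_univ, Fintype.card_fin]
    decide
  · intro i _ j _ hij
    exact (pairwise_disjoint_powersetCard univ) hij

theorem mem_P {S : Finset (Fin 23)} : S ∈ P ↔ S.card ≤ 3 := by
  simp only [P, mem_biUnion, mem_range, mem_powersetCard, subset_univ, true_and]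
  constructor
  · rintro ⟨k, hk, h⟩
    omega
  · intro h
    exact ⟨S.card, by omega, rfl⟩

/-- elementary symmetric functions of signs -/
theorem esymm_two (e : Fin 23 → ℤ) (he : ∀ i, e i ^ 2 = 1) :
    2 * ∑ S ∈ powersetCard 2 univ, ∏ i ∈ S, e i = (∑ i, e i) ^ 2 - 23 := by
  have h := congrArg (MvPolynomial.eval e) (MvPolynomial.mul_esymm_eq_sum (Fin 23) ℤ 2)
  have h2 : (antidiagonal 2).filter (fun a : ℕ × ℕ => a.1 < 2) = {(0, 2), (1, 1)} := by decide
  rw [h2] at h
  rw [sum_insert (by decide), sum_singleton] at h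
  simp only [MvPolynomial.esymm, MvPolynomial.psum, map_mul, map_add, map_sum, map_prod, map_pow, map_neg, map_one,
    MvPolynomial.eval_X, map_natCast, powersetCard_zero, sum_singleton, prod_empty, powersetCard_one, sum_map,
    Function.Embedding.coeFn_mk, prod_singleton, he, sum_const, card_univ, Fintype.card_fin] at h
  norm_num at h
  linarith

theorem esymm_three (e : Fin 23 → ℤ) (he : ∀ i, e i ^ 2 = 1) :
    6 * ∑ S ∈ powersetCard 3 univ, ∏ i ∈ S, e i = (∑ i, e i) ^ 3 - 67 * ∑ i, e i := by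
  have h := congrArg (MvPolynomial.eval e) (MvPolynomial.mul_esymm_eq_sum (Fin 23) ℤ 3)
  have h2 : (antidiagonal 3).filter (fun a : ℕ × ℕ => a.1 < 3) = {(0, 3), (1, 2), (2, 1)} := by decide
  have h3 : ∀ i, e i ^ 3 = e i := fun i => by
    have := he i
    calc e i ^ 3 = e i ^ 2 * e i := by ring
      _ = e i := by rw [this, one_mul]
  rw [h2] at h
  rw [sum_insert (by decide), sum_insert (by decide), sum_singleton] at h
  have h4 := esymm_two e he
  simp only [MvPolynomial.esymm, MvPolynomial.psum, map_mul, map_add, map_sum, map_prod, map_pow, map_neg, map_one,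
    MvPolynomial.eval_X, map_natCast, powersetCard_zero, sum_singleton, prod_empty, powersetCard_one, sum_map,
    Function.Embedding.coeFn_mk, prod_singleton, he, h3, sum_const, card_univ, Fintype.card_fin] at h
  norm_num at h
  have h5 : 6 * ∑ S ∈ powersetCard 3 univ, ∏ i ∈ S, e i =
      (∑ i, e i) * (2 * ∑ S ∈ powersetCard 2 univ, ∏ i ∈ S, e i) - 44 * ∑ i, e i := by
    linear_combination 2 * h
  rw [h5, h4]
  ring

section Sum

variable {V : Type*} [CommGroup V] {b : Fin 23 → V}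

/-- the product over a set -/
def ph (b : Fin 23 → V) (S : Finset (Fin 23)) : V := ∏ i ∈ S, b i

theorem image_ph [Fintype V] [DecidableEq V] (B : Ball b) : P.image (ph b) = univ := by
  rw [eq_univ_iff_forall]
  intro x
  rw [mem_image]
  have hs : ∀ i, b i * b i = 1 := fun i => B.sq _
  have h0 : ∀ i, ∃ S ∈ P, ph b S = b i := fun i => ⟨{i}, mem_P.2 (by simp), prod_singleton _ _⟩
  have h1 : ∃ S ∈ P, ph b S = 1 := ⟨∅, mem_P.2 (by simp), prod_empty⟩
  rcases B.shape x with rfl | ⟨i, rfl⟩ | ⟨i, j, rfl⟩ | ⟨i, j, k, rfl⟩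
  · exact h1
  · exact h0 i
  · by_cases hij : i = j
    · rw [hij, hs]
      exact h1
    · refine ⟨{i, j}, mem_P.2 (by rw [card_pair hij]; norm_num), prod_pair hij⟩
  · by_cases hij : i = j
    · rw [hij, hs, one_mul]
      exact h0 k
    · by_cases hik : i = k
      · rw [hik, mul_comm (b k) (b j), mul_assoc, hs, mul_one]
        exact h0 j
      · by_cases hjk : j = k
        · rw [hjk, mul_assoc, hs, mul_one]
          exact h0 i
        · refine ⟨{i, j, k}, mem_P.2 ?_, ?_⟩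
          · rw [card_eq_three.2 ⟨i, j, k, hij, hik, hjk, rfl⟩]
          · rw [ph, prod_insert (by simp [hij, hik]), prod_pair hjk, mul_assoc]

theorem injOn_ph (B : Ball b) : Set.InjOn (ph b) (P : Set (Finset (Fin 23))) := by
  classical
  have hf : Finite V := Nat.finite_of_card_ne_zero (by rw [B.card]; norm_num)
  have := Fintype.ofFinite V
  apply injOn_of_card_image_eq
  rw [image_ph B, card_univ, ← Nat.card_eq_fintype_card, B.card, card_P]
  norm_num

theorem ne_one (B : Ball b) (i : Fin 23) : b i ≠ 1 := by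
  intro h
  have h1 := injOn_ph B (show ({i} : Finset (Fin 23)) ∈ (P : Set _) from mem_P.2 (by simp))
    (show (∅ : Finset (Fin 23)) ∈ (P : Set _) from mem_P.2 (by simp)) (by simp [ph, h])
  simp at h1

theorem inj (B : Ball b) : Function.Injective b := by
  intro i j h
  have h1 := injOn_ph B (show ({i} : Finset (Fin 23)) ∈ (P : Set _) from mem_P.2 (by simp))
    (show ({j} : Finset (Fin 23)) ∈ (P : Set _) from mem_P.2 (by simp)) (by simp [ph, h])
  simpa using h1

/-- the main identity -/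
theorem sum_ball [Fintype V] (B : Ball b) (lam : V →* ℤˣ) (F : V → ℤ) {n f1 f2 f3 : ℤ} (h0 : F 1 = n)
    (h1 : ∀ i, F (b i) = f1) (h2 : ∀ i j, i ≠ j → F (b i * b j) = f2)
    (h3 : ∀ i j k, i ≠ j → i ≠ k → j ≠ k → F (b i * b j * b k) = f3) :
    6 * ∑ v : V, (lam v : ℤ) * F v = 6 * n + 6 * (∑ i, (lam (b i) : ℤ)) * f1 +
      3 * ((∑ i, (lam (b i) : ℤ)) ^ 2 - 23) * f2 + ((∑ i, (lam (b i) : ℤ)) ^ 3 - 67 * ∑ i, (lam (b i) : ℤ)) * f3 := by
  classical
  rw [← image_ph B, sum_image (injOn_ph B), P, sum_biUnion (fun i _ j _ hij => pairwise_disjoint_powersetCard univ hij)]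
  have hl : ∀ S, ((lam (ph b S) : ℤˣ) : ℤ) = ∏ i ∈ S, (lam (b i) : ℤ) := by
    intro S
    rw [ph, map_prod, Units.coe_prod]
  have he : ∀ i, (lam (b i) : ℤ) ^ 2 = 1 := fun i => by
    rcases unit_cases (lam (b i)) with h | h <;> rw [h] <;> norm_num
  have e2 := esymm_two (fun i => (lam (b i) : ℤ)) he
  have e3 := esymm_three (fun i => (lam (b i) : ℤ)) he
  have k1 : ∑ S ∈ powersetCard 1 univ, (lam (ph b S) : ℤ) * F (ph b S) = (∑ i, (lam (b i) : ℤ)) * f1 := by
    rw [powersetCard_one, sum_map, sum_mul]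
    refine sum_congr rfl fun i _ => ?_
    simp [ph, h1]
  have k2 : ∑ S ∈ powersetCard 2 univ, (lam (ph b S) : ℤ) * F (ph b S) =
      (∑ S ∈ powersetCard 2 univ, ∏ i ∈ S, (lam (b i) : ℤ)) * f2 := by
    rw [sum_mul]
    refine sum_congr rfl fun S hS => ?_
    rw [hl S]
    obtain ⟨i, j, hij, rfl⟩ := card_eq_two.1 (mem_powersetCard.1 hS).2
    have h : ph b {i, j} = b i * b j := prod_pair hij
    rw [h, h2 i j hij]
  have k3 : ∑ S ∈ powersetCard 3 univ, (lam (ph b S) : ℤ) * F (ph b S) =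
      (∑ S ∈ powersetCard 3 univ, ∏ i ∈ S, (lam (b i) : ℤ)) * f3 := by
    rw [sum_mul]
    refine sum_congr rfl fun S hS => ?_
    rw [hl S]
    obtain ⟨i, j, k, hij, hik, hjk, rfl⟩ := card_eq_three.1 (mem_powersetCard.1 hS).2
    have h : ph b {i, j, k} = b i * b j * b k := by
      rw [ph, prod_insert (by simp [hij, hik]), prod_pair hjk, ← mul_assoc]
    rw [h, h3 i j k hij hik hjk]
  rw [sum_range_succ, sum_range_succ, sum_range_succ, sum_range_one, k1, k2, k3, powersetCard_zero, sum_singleton]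
  have k0 : (lam (ph b ∅) : ℤ) * F (ph b ∅) = n := by simp [ph, h0]
  rw [k0]
  linear_combination f2 * 3 * e2 + f3 * e3

/-- the three types of sign characters -/
theorem roots [Fintype V] (B : Ball b) {lam : V →* ℤˣ} (hl : lam ≠ 1) :
    ((∑ i, (lam (b i) : ℤ)) - 7) * ((∑ i, (lam (b i) : ℤ)) + 1) * ((∑ i, (lam (b i) : ℤ)) + 9) = 0 := by
  have h := sum_ball B lam (fun _ => 1) (n := 1) (f1 := 1) (f2 := 1) (f3 := 1) rfl (fun _ => rfl) (fun _ _ _ => rfl)
    (fun _ _ _ _ _ _ => rfl)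
  simp only [mul_one] at h
  rw [sum_eq_zero hl] at h
  linear_combination -h

theorem exists_type (B : Ball b) (u v : ℤ) (w : ℤ) (hw : ∀ s : ℤ, (s - 7) * (s + 1) * (s + 9) = 0 → s ≠ w → (s - u) * (s - v) = 0)
    (hne : (23 - u) * (23 - v) ≠ 2048 * (23 + u * v)) : ∃ lam : V →* ℤˣ, ∑ i, (lam (b i) : ℤ) = w := by
  classical
  have hf : Finite V := Nat.finite_of_card_ne_zero (by rw [B.card]; norm_num)
  have := Fintype.ofFinite V
  have := Fintype.ofFinite (V →* ℤˣ)
  by_contra hcon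
  push Not at hcon
  have h1 := sum_fam B.sq (a := b) (ne_one B)
  have h2 := sum_fam_sq B.sq (inj B)
  have hc : (Fintype.card (V →* ℤˣ) : ℤ) = 2048 := by
    rw [← Nat.card_eq_fintype_card, card_hom B.sq, B.card]
    norm_num
  rw [B.card, Fintype.card_fin] at h2
  have h3 : ∑ lam : V →* ℤˣ, ((∑ i, (lam (b i) : ℤ)) - u) * ((∑ i, (lam (b i) : ℤ)) - v) =
      (23 - u) * (23 - v) := by
    rw [sum_eq_single (1 : V →* ℤˣ)]
    · simp
    · intro lam _ hl
      exact hw _ (roots B hl) (hcon lam)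
    · intro h
      exact absurd (mem_univ _) h
  have h4 : ∑ lam : V →* ℤˣ, ((∑ i, (lam (b i) : ℤ)) - u) * ((∑ i, (lam (b i) : ℤ)) - v) =
      ∑ lam : V →* ℤˣ, (∑ i, (lam (b i) : ℤ)) ^ 2 - (u + v) * ∑ lam : V →* ℤˣ, (∑ i, (lam (b i) : ℤ)) +
        u * v * Fintype.card (V →* ℤˣ) := by
    rw [Fintype.card_eq_sum_ones, Nat.cast_sum, mul_sum, mul_sum, ← sum_sub_distrib, ← sum_add_distrib]
    refine sum_congr rfl fun lam _ => ?_
    push_cast
    ring
  rw [h4, h1, h2, hc] at h3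
  apply hne
  rw [← h3]
  push_cast
  ring

end Sum

section Final

variable {V : Type*} [Group V] {b : Fin 23 → V} {Ω : Type*} [MulAction V Ω] [Finite Ω]

/-- **Tool V.** -/
theorem tool (B : Ball b) {f1 f2 f3 : ℕ} (h1 : ∀ i, (fixedBy Ω (b i)).ncard = f1)
    (h2 : ∀ i j, i ≠ j → (fixedBy Ω (b i * b j)).ncard = f2)
    (h3 : ∀ i j k, i ≠ j → i ≠ k → j ≠ k → (fixedBy Ω (b i * b j * b k)).ncard = f3) :
    ∃ m0 m7 m1 m9 : ℕ, 2048 * (m0 : ℤ) = Nat.card Ω + 23 * f1 + 253 * f2 + 1771 * f3 ∧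
      2048 * (m7 : ℤ) = Nat.card Ω + 7 * f1 + 13 * f2 - 21 * f3 ∧
      2048 * (m1 : ℤ) = Nat.card Ω - f1 - 11 * f2 + 11 * f3 ∧
      2048 * (m9 : ℤ) = Nat.card Ω - 9 * f1 + 29 * f2 - 21 * f3 := by
  classical
  let _ : CommGroup V := { (inferInstance : Group V) with mul_comm := comm_of_sq B.sq }
  have hf : Finite V := Nat.finite_of_card_ne_zero (by rw [B.card]; norm_num)
  have := Fintype.ofFinite V
  have hcV : (Fintype.card V : ℤ) = 2048 := by
    rw [← Nat.card_eq_fintype_card, B.card]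
    norm_num
  have key : ∀ lam : V →* ℤˣ, ∃ m : ℕ, 6 * (2048 * (m : ℤ)) = 6 * Nat.card Ω + 6 * (∑ i, (lam (b i) : ℤ)) * f1 +
      3 * ((∑ i, (lam (b i) : ℤ)) ^ 2 - 23) * f2 +
      ((∑ i, (lam (b i) : ℤ)) ^ 3 - 67 * ∑ i, (lam (b i) : ℤ)) * f3 := by
    intro lam
    obtain ⟨m, hm⟩ := exists_mult (V := V) (Ω := Ω) lam
    refine ⟨m, ?_⟩
    rw [hcV] at hm
    rw [← hm]
    exact sum_ball B lam (fun v => ((fixedBy Ω v).ncard : ℤ))
      (by
        have : fixedBy Ω (1 : V) = Set.univ := by ext x; simp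
        simp only [this, Set.ncard_univ])
      (fun i => by simp only [h1 i]) (fun i j hij => by simp only [h2 i j hij])
      (fun i j k hij hik hjk => by simp only [h3 i j k hij hik hjk])
  obtain ⟨l7, hl7⟩ := exists_type B (-1) (-9) 7 (by
    intro s hs hne
    have h : s - 7 ≠ 0 := sub_ne_zero.2 hne
    rw [mul_assoc] at hs
    have := (mul_eq_zero.1 hs).resolve_left h
    linear_combination this) (by norm_num)
  obtain ⟨l1, hl1⟩ := exists_type B 7 (-9) (-1) (by
    intro s hs hne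
    have h : s + 1 ≠ 0 := fun h => hne (by linarith)
    have hs' : (s + 1) * ((s - 7) * (s + 9)) = 0 := by linear_combination hs
    have := (mul_eq_zero.1 hs').resolve_left h
    linear_combination this) (by norm_num)
  obtain ⟨l9, hl9⟩ := exists_type B 7 (-1) (-9) (by
    intro s hs hne
    have h : s + 9 ≠ 0 := fun h => hne (by linarith)
    have := (mul_eq_zero.1 hs).resolve_right h
    linear_combination this) (by norm_num)
  obtain ⟨m0, e0⟩ := key 1
  obtain ⟨m7, e7⟩ := key l7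
  obtain ⟨m1, e1⟩ := key l1
  obtain ⟨m9, e9⟩ := key l9
  rw [hl7] at e7
  rw [hl1] at e1
  rw [hl9] at e9
  have hs : ∑ i, ((1 : V →* ℤˣ) (b i) : ℤ) = 23 := by simp
  rw [hs] at e0
  refine ⟨m0, m7, m1, m9, ?_, ?_, ?_, ?_⟩
  · linarith
  · linarith
  · linarith
  · linarith

end Final

end Cfsg.Agent.H510.TwoBall
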