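import Mathlib

/-!
# Orbit multiplicities of sign characters of a 2-group (helper510, HUB H1 part P11)

* `exists_mult` : for `lam : V →* ℤˣ` and an action of the finite group `V` on the finite set `Ω` the sum
  `∑ v, lam v * |Fix v|` is `|V| m` for a natural number `m` (Tool V);
* `sum_eq_zero` : `∑ v, lam v = 0` for `lam ≠ 1`;
* `card_hom`, `sum_hom_eq_zero` : for `V` of exponent 2 there are `|V|` sign characters and `∑ lam, lam v = 0` for `v ≠ 1`;
* `sum_fam`, `sum_fam_sq` : the moments of `∑ i, lam (a i)` for an injective family of elements `≠ 1`.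
-/

set_option autoImplicit false

namespace Cfsg.Agent.H510.TwoChar

open MulAction

section Mult

variable {V : Type*} [Group V] {Ω : Type*} [MulAction V Ω]

/-- Burnside's lemma -/
theorem burnside [Fintype V] [Finite Ω] : ∃ m : ℕ, ∑ v : V, (fixedBy Ω v).ncard = Fintype.card V * m ∧
    m = Nat.card (Quotient (orbitRel V Ω)) := by
  classical
  have := Fintype.ofFinite Ω
  have h := sum_card_fixedBy_eq_card_orbits_mul_card_group V Ω
  refine ⟨Nat.card (Quotient (orbitRel V Ω)), ?_, rfl⟩
  rw [Nat.card_eq_fintype_card, mul_comm]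
  rw [← h]
  refine Finset.sum_congr rfl fun v _ => ?_
  rw [Set.ncard_eq_toFinset_card', Set.toFinset_card]

theorem orb_le [Finite Ω] (H : Subgroup V) :
    Nat.card (Quotient (orbitRel V Ω)) ≤ Nat.card (Quotient (orbitRel H Ω)) := by
  refine Nat.card_le_card_of_surjective (Quotient.map' id ?_) ?_
  · rintro a b ⟨g, rfl⟩
    exact ⟨(g : V), rfl⟩
  · intro q
    induction q using Quotient.inductionOn' with
    | h a => exact ⟨Quotient.mk'' a, rfl⟩

theorem sum_sub [Fintype V] [Finite Ω] (H : Subgroup V) [Fintype H] :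
    ∑ v : H, (fixedBy Ω v).ncard = ∑ v : V, haveI := Classical.dec (v ∈ H); if v ∈ H then (fixedBy Ω v).ncard else 0 := by
  classical
  have h1 : ∀ v : H, (fixedBy Ω v).ncard = (fixedBy Ω (v : V)).ncard := fun v => rfl
  simp only [h1]
  have h2 : (∑ v : H, (fixedBy Ω (v : V)).ncard) =
      ∑ v ∈ (Finset.univ.filter fun v : V => v ∈ H), (fixedBy Ω v).ncard := by
    rw [← Finset.sum_subtype (Finset.univ.filter fun v : V => v ∈ H) (fun x => by simp)
      (fun v => (fixedBy Ω v).ncard)]
  rw [h2, Finset.sum_filter]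

theorem unit_cases (x : ℤˣ) : (x : ℤ) = 1 ∨ (x : ℤ) = -1 := by
  rcases Int.units_eq_one_or x with h | h
  · left; rw [h]; rfl
  · right; rw [h]; rfl

/-- **Tool V**: the multiplicity of a sign character in the permutation character. -/
theorem exists_mult [Fintype V] [Finite Ω] (lam : V →* ℤˣ) :
    ∃ m : ℕ, ∑ v : V, (lam v : ℤ) * ((fixedBy Ω v).ncard : ℤ) = Fintype.card V * m := by
  classical
  by_cases hl : lam = 1
  · obtain ⟨m, hm, -⟩ := burnside (V := V) (Ω := Ω)
    refine ⟨m, ?_⟩
    rw [hl]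
    simp only [MonoidHom.one_apply, Units.val_one, one_mul]
    exact_mod_cast hm
  · set H := lam.ker with hH
    obtain ⟨m, hm, hmo⟩ := burnside (V := V) (Ω := Ω)
    obtain ⟨m', hm', hmo'⟩ := burnside (V := H) (Ω := Ω)
    have hle : m ≤ m' := by rw [hmo, hmo']; exact orb_le H
    have hidx : H.index = 2 := by
      have h1 : Nat.card lam.range ∣ 2 := by
        have := Subgroup.card_subgroup_dvd_card lam.range
        rwa [show Nat.card ℤˣ = 2 by rw [Nat.card_eq_fintype_card]; rfl] at this
      rw [hH, Subgroup.index_ker]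
      rcases (Nat.dvd_prime Nat.prime_two).1 h1 with h | h
      · exfalso
        apply hl
        have h2 := Subgroup.card_eq_one.1 h
        ext v
        have : lam v ∈ lam.range := ⟨v, rfl⟩
        rw [h2, Subgroup.mem_bot] at this
        rw [this]
        rfl
      · exact h
    have hcard : Fintype.card V = 2 * Fintype.card H := by
      have := H.card_mul_index
      rw [hidx, Nat.card_eq_fintype_card, Nat.card_eq_fintype_card] at this
      omega
    refine ⟨m' - m, ?_⟩
    rw [sum_sub] at hm'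
    have h1 : ∑ v : V, (lam v : ℤ) * ((fixedBy Ω v).ncard : ℤ) =
        2 * (∑ v : V, (if v ∈ H then ((fixedBy Ω v).ncard : ℤ) else 0)) - ∑ v : V, ((fixedBy Ω v).ncard : ℤ) := by
      rw [Finset.mul_sum, ← Finset.sum_sub_distrib]
      refine Finset.sum_congr rfl fun v _ => ?_
      by_cases hv : v ∈ H
      · rw [if_pos hv]
        have : lam v = 1 := hv
        rw [this]
        push_cast
        ring
      · rw [if_neg hv]
        have : lam v = -1 := (Int.units_eq_one_or _).resolve_left hv
        rw [this]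
        push_cast
        ring
    have h2 : (∑ v : V, (if v ∈ H then ((fixedBy Ω v).ncard : ℤ) else 0)) = Fintype.card H * m' := by
      rw [← Nat.cast_mul, ← hm', Nat.cast_sum]
      refine Finset.sum_congr rfl fun v _ => ?_
      split_ifs <;> simp
    have h3 : (∑ v : V, ((fixedBy Ω v).ncard : ℤ)) = Fintype.card V * m := by
      rw [← Nat.cast_mul, ← hm, Nat.cast_sum]
    rw [h1, h2, h3, hcard, Nat.cast_sub hle]
    push_cast
    ring

theorem sum_eq_zero [Fintype V] {lam : V →* ℤˣ} (h : lam ≠ 1) : ∑ v : V, (lam v : ℤ) = 0 := by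
  obtain ⟨u, hu⟩ : ∃ u, lam u ≠ 1 := by
    by_contra hcon
    push Not at hcon
    exact h (MonoidHom.ext hcon)
  have hu' : (lam u : ℤ) = -1 := by
    rcases unit_cases (lam u) with h1 | h1
    · exact absurd (Units.ext h1) hu
    · exact h1
  have h1 : ∑ v : V, (lam v : ℤ) = ∑ v : V, (lam (u * v) : ℤ) :=
    (Equiv.sum_comp (Equiv.mulLeft u) (fun v => (lam v : ℤ))).symm
  simp only [map_mul, Units.val_mul, ← Finset.mul_sum, hu'] at h1
  linarith

end Mult

section Dual

variable {V : Type*} [Group V]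

theorem comm_of_sq (hsq : ∀ v : V, v * v = 1) (a b : V) : a * b = b * a := by
  have h := hsq (a * b)
  have ha := hsq a
  have hb := hsq b
  calc a * b = a * b * (b * a * (b * a)) := by rw [hsq (b * a), mul_one]
    _ = a * (b * b) * a * (b * a) := by group
    _ = b * a := by rw [hb, mul_one, ha, one_mul]

theorem enough (hsq : ∀ v : V, v * v = 1) : HasEnoughRootsOfUnity ℤ (Monoid.exponent V) := by
  have h1 : Monoid.exponent V ∣ 2 := Monoid.exponent_dvd_of_forall_pow_eq_one fun g => by rw [pow_two]; exact hsq g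
  have h2 : HasEnoughRootsOfUnity ℤ 2 := by
    refine ⟨⟨-1, IsPrimitiveRoot.neg_one 0 (by norm_num)⟩, ?_⟩
    have : NeZero 2 := ⟨by norm_num⟩
    infer_instance
  have : NeZero 2 := ⟨by norm_num⟩
  exact HasEnoughRootsOfUnity.of_dvd ℤ h1

variable [Finite V]

theorem exists_ne (hsq : ∀ v : V, v * v = 1) {a : V} (ha : a ≠ 1) : ∃ lam : V →* ℤˣ, lam a ≠ 1 := by
  let _ : CommGroup V := { (inferInstance : Group V) with mul_comm := comm_of_sq hsq }
  have := enough hsq
  exact CommGroup.exists_apply_ne_one_of_hasEnoughRootsOfUnity V ℤ ha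

theorem card_hom (hsq : ∀ v : V, v * v = 1) : Nat.card (V →* ℤˣ) = Nat.card V := by
  let _ : CommGroup V := { (inferInstance : Group V) with mul_comm := comm_of_sq hsq }
  have := enough hsq
  exact CommGroup.card_monoidHom_of_hasEnoughRootsOfUnity V ℤ

instance finite_hom : Finite (V →* ℤˣ) := by
  have : Finite (V → ℤˣ) := inferInstance
  exact Finite.of_injective (fun f : V →* ℤˣ => (f : V → ℤˣ)) DFunLike.coe_injective

theorem sum_hom_eq_zero (hsq : ∀ v : V, v * v = 1) [Fintype (V →* ℤˣ)] {a : V} (ha : a ≠ 1) :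
    ∑ lam : V →* ℤˣ, (lam a : ℤ) = 0 := by
  obtain ⟨mu, hmu⟩ := exists_ne hsq ha
  have hmu' : (mu a : ℤ) = -1 := by
    rcases unit_cases (mu a) with h1 | h1
    · exact absurd (Units.ext h1) hmu
    · exact h1
  have h1 : ∑ lam : V →* ℤˣ, (lam a : ℤ) = ∑ lam : V →* ℤˣ, ((mu * lam) a : ℤ) :=
    (Equiv.sum_comp (Equiv.mulLeft mu) (fun lam : V →* ℤˣ => (lam a : ℤ))).symm
  simp only [MonoidHom.mul_apply, Units.val_mul, ← Finset.mul_sum, hmu'] at h1
  linarith

variable {ι : Type*} [Fintype ι]

theorem sum_fam (hsq : ∀ v : V, v * v = 1) [Fintype (V →* ℤˣ)] {a : ι → V} (ha : ∀ i, a i ≠ 1) :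
    ∑ lam : V →* ℤˣ, ∑ i, (lam (a i) : ℤ) = 0 := by
  rw [Finset.sum_comm]
  exact Finset.sum_eq_zero fun i _ => sum_hom_eq_zero hsq (ha i)

theorem sum_fam_sq (hsq : ∀ v : V, v * v = 1) [Fintype (V →* ℤˣ)] {a : ι → V} (ha : Function.Injective a) :
    ∑ lam : V →* ℤˣ, (∑ i, (lam (a i) : ℤ)) ^ 2 = Nat.card V * Fintype.card ι := by
  classical
  have h1 : ∀ lam : V →* ℤˣ, (∑ i, (lam (a i) : ℤ)) ^ 2 = ∑ i, ∑ j, (lam (a i * a j) : ℤ) := by
    intro lam
    rw [pow_two, Finset.sum_mul]
    refine Finset.sum_congr rfl fun i _ => ?_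
    rw [Finset.mul_sum]
    refine Finset.sum_congr rfl fun j _ => ?_
    rw [map_mul, Units.val_mul]
  simp only [h1]
  rw [Finset.sum_comm]
  have h2 : ∀ i : ι, ∑ lam : V →* ℤˣ, ∑ j, (lam (a i * a j) : ℤ) = Nat.card V := by
    intro i
    rw [Finset.sum_comm, Finset.sum_eq_single i]
    · rw [hsq (a i)]
      simp only [map_one, Units.val_one, Finset.sum_const, smul_eq_mul, mul_one, Finset.card_univ]
      rw [← card_hom hsq, Nat.card_eq_fintype_card]
      simp
    · intro j _ hj
      apply sum_hom_eq_zero hsq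
      intro h
      apply hj
      apply ha
      have h3 := hsq (a i)
      exact mul_left_cancel (h.trans h3.symm)
    · intro h
      exact absurd (Finset.mem_univ i) h
  rw [Finset.sum_congr rfl fun i _ => h2 i, Finset.sum_const, nsmul_eq_mul, Finset.card_univ]
  ring

end Dual

end Cfsg.Agent.H510.TwoChar
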