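import Cfsg.Agent.H970.TwoSporBase
import Cfsg.Agent.H510.TwoTool
import Cfsg.Agent.H843.Syl

/-!
# Lemma K for the stabilizers, for groups of any order (helper510, HUB H1 part P11)

* `Pre X data` : the triples `(p, k, M)` with `|C(P)| ∣ p k`, `|N(P)| ∣ p M` for the subgroups `P` of order `p`;
* `Pre.hom` : it is inherited by groups which embed;
* `survive` : the numerical condition `feasAll` of helper970 for the stabilizers of one and two points.
-/

set_option autoImplicit false

namespace Cfsg.Agent.H510.TwoStab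

open Subgroup MulAction Cfsg.Agent.H384.TwoTrans Cfsg.Agent.H970.StabNum Cfsg.Agent.H970.TwoSpor

universe u v

/-- exact primes with bounds for the centralizer and the normalizer -/
structure Pre (X : Type*) [Group X] (data : List (ℕ × ℕ × ℕ)) : Prop where
  prime : ∀ x ∈ data, (x.1).Prime ∧ ¬ x.1 ^ 2 ∣ Nat.card X ∧ 0 < x.2.1 ∧ x.2.1 < 256 ∧ 0 < x.2.2
  cent : ∀ x ∈ data, ∀ P : Subgroup X, Nat.card P = x.1 →
    Nat.card (centralizer (P : Set X)) ∣ x.1 * x.2.1 ∧ Nat.card (normalizer (P : Set X)) ∣ x.1 * x.2.2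

theorem Pre.hom {X Y : Type*} [Group X] [Group Y] [Finite Y] {data : List (ℕ × ℕ × ℕ)} (h : Pre Y data) (f : X →* Y)
    (hf : Function.Injective f) : Pre X data where
  prime x hx := by
    obtain ⟨h1, h2, h3⟩ := h.prime x hx
    exact ⟨h1, fun h4 => h2 (h4.trans (Subgroup.card_dvd_of_injective f hf)), h3⟩
  cent x hx P hP := by
    have hP' : Nat.card (P.map f) = x.1 := by
      rw [← hP]
      exact (Nat.card_congr (P.equivMapOfInjective f hf).toEquiv).symm
    obtain ⟨h1, h2⟩ := h.cent x hx _ hP'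
    constructor
    · refine dvd_trans ?_ h1
      have hle : (centralizer (P : Set X)).map f ≤ centralizer ((P.map f : Subgroup Y) : Set Y) := by
        rintro _ ⟨y, hy, rfl⟩
        rw [mem_centralizer_iff]
        rintro _ ⟨z, hz, rfl⟩
        rw [← map_mul, ← map_mul, mem_centralizer_iff.1 hy z hz]
      have h7 := Subgroup.card_dvd_of_le hle
      rwa [← Nat.card_congr (equivMapOfInjective _ f hf).toEquiv] at h7
    · refine dvd_trans ?_ h2
      have hle : (normalizer (P : Set X)).map f ≤ normalizer ((P.map f : Subgroup Y) : Set Y) :=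
        le_normalizer_map (H := P) f
      have h7 := Subgroup.card_dvd_of_le hle
      rwa [← Nat.card_congr (equivMapOfInjective _ f hf).toEquiv] at h7

/-- from one subgroup of order `p` to all -/
theorem of_one {X : Type*} [Group X] [Finite X] {p c m : ℕ} (hp : p.Prime) (h2 : ¬ p ^ 2 ∣ Nat.card X) {B : Subgroup X}
    (hB : Nat.card B = p) (hc : Nat.card (centralizer (B : Set X)) ∣ c) (hm : Nat.card (normalizer (B : Set X)) ∣ m)
    (P : Subgroup X) (hP : Nat.card P = p) :
    Nat.card (centralizer (P : Set X)) ∣ c ∧ Nat.card (normalizer (P : Set X)) ∣ m := by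
  obtain ⟨g, hg⟩ := H843.Syl.exists_conj hp h2 B P hB hP
  have key : ∀ g : X, ∀ B P : Subgroup X, B.map (MulAut.conj g).toMonoidHom = P →
      Nat.card (centralizer (P : Set X)) ∣ Nat.card (centralizer (B : Set X)) ∧
      Nat.card (normalizer (P : Set X)) ∣ Nat.card (normalizer (B : Set X)) := by
    intro g B P hg
    have hb : ∀ y, y ∈ P ↔ g⁻¹ * y * g ∈ B := by
      intro y
      rw [← hg]
      constructor
      · rintro ⟨x, hx, rfl⟩
        have : g⁻¹ * ((MulAut.conj g).toMonoidHom x) * g = x := by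
          show g⁻¹ * (g * x * g⁻¹) * g = x
          group
        rwa [this]
      · intro hy
        refine ⟨_, hy, ?_⟩
        show g * (g⁻¹ * y * g) * g⁻¹ = y
        group
    constructor
    · refine Subgroup.card_dvd_of_injective
        (((MulAut.conj g⁻¹).toMonoidHom.comp (centralizer (P : Set X)).subtype).codRestrict _ ?_) ?_
      · intro x
        rw [mem_centralizer_iff]
        intro y hy
        have h1 : g * y * g⁻¹ ∈ P := (hb _).2 (by
          have e : g⁻¹ * (g * y * g⁻¹) * g = y := by group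
          rw [e]
          exact hy)
        have h3 := mem_centralizer_iff.1 x.2 _ h1
        show y * (g⁻¹ * x * g⁻¹⁻¹) = g⁻¹ * x * g⁻¹⁻¹ * y
        calc y * (g⁻¹ * x * g⁻¹⁻¹) = g⁻¹ * (g * y * g⁻¹ * x) * g := by group
          _ = g⁻¹ * (x * (g * y * g⁻¹)) * g := by rw [h3]
          _ = g⁻¹ * x * g⁻¹⁻¹ * y := by group
      · intro x y hxy
        have h4 := congrArg Subtype.val hxy
        exact Subtype.ext ((MulAut.conj g⁻¹).injective h4)
    · refine Subgroup.card_dvd_of_injective
        (((MulAut.conj g⁻¹).toMonoidHom.comp (normalizer (P : Set X)).subtype).codRestrict _ ?_) ?_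
      · intro x
        rw [mem_normalizer_iff]
        intro y
        have h3 := mem_normalizer_iff.1 x.2 (g * y * g⁻¹)
        rw [hb, hb] at h3
        have e1 : g⁻¹ * (g * y * g⁻¹) * g = y := by group
        have e2 : g⁻¹ * ((x : X) * (g * y * g⁻¹) * (x : X)⁻¹) * g =
            (g⁻¹ * x * g⁻¹⁻¹) * y * (g⁻¹ * x * g⁻¹⁻¹)⁻¹ := by group
        rw [e1, e2] at h3
        exact h3
      · intro x y hxy
        have h4 := congrArg Subtype.val hxy
        exact Subtype.ext ((MulAut.conj g⁻¹).injective h4)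
  obtain ⟨h5, h6⟩ := key g B P hg
  exact ⟨h5.trans hc, h6.trans hm⟩

theorem Pre.feas {X : Type u} [Group X] [Finite X] {data : List (ℕ × ℕ × ℕ)} {ps tbl : List ℕ} (h : Pre X data)
    (hps : ∀ r ∈ ps, r.Prime)
    (ht : ∀ (K : Type u) [Group K] [Finite K], IsSimpleGroup K → (¬ ∀ x y : K, x * y = y * x) →
      Nat.card K ∣ Nat.card X → Nat.card K ∈ tbl) (H : Subgroup X) (hlt : Nat.card H < 2 ^ 80) :
    feasAll data ps tbl (Nat.card H) = true := by
  have h1 := h.hom H.subtype H.subtype_injective
  have D : Data ↥H data ps tbl :=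
    { fin := inferInstance
      lt := hlt
      prime := h1.prime
      cent := h1.cent
      ps := hps
      tbl := fun K _ _ hK hn hd => ht K hK hn (hd.trans (Subgroup.card_subgroup_dvd_card H)) }
  have h2 := D.feas (⊤ : Subgroup ↥H)
  rwa [Subgroup.card_top] at h2

/-- the condition on the degree -/
def ok (N n : ℕ) (js : List ℕ) (data : List (ℕ × ℕ × ℕ)) (ps tbl : List ℕ) : Bool :=
  feasAll data ps tbl (N / n) &&
    js.any fun j => (n - 1) % j == 0 && (N / n * j % (n - 1) == 0 && feasAll data ps tbl (N / n * j / (n - 1)))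

variable {G : Type u} {Ω : Type v} [Group G] [MulAction G Ω] {T : Subgroup G}

/-- **Lemma K for the stabilizers of one and two points.** -/
theorem survive (A : AS G Ω T) {N out n : ℕ} {js : List ℕ} {data : List (ℕ × ℕ × ℕ)} {ps tbl : List ℕ}
    (hN : Nat.card ↥T = N) (ho : (MulAut.conj : ↥T →* MulAut ↥T).range.index ∣ out) (hjs : ∀ j, j ∣ out → j ∈ js)
    (h : Pre ↥T data) (hps : ∀ r ∈ ps, r.Prime)
    (ht : ∀ (K : Type u) [Group K] [Finite K], IsSimpleGroup K → (¬ ∀ x y : K, x * y = y * x) →
      Nat.card K ∣ N → Nat.card K ∈ tbl) (hn : Nat.card Ω = n) (hlt : N / n < 2 ^ 80) :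
    ok N n js data ps tbl = true := by
  subst hN
  subst hn
  have := A.finT
  obtain ⟨a⟩ : Nonempty Ω := by have := A.nontrivialΩ; infer_instance
  obtain ⟨b, hb⟩ := A.two_ne a
  have h3 := A.card_mul a
  have h5 := A.five_le
  have h6 : Nat.card ↥T / Nat.card Ω = Nat.card (stabilizer T a) := by
    rw [← h3]; exact Nat.mul_div_cancel_left _ (by omega)
  rw [h6] at hlt
  unfold ok
  refine bandI ?_ ?_
  · rw [h6]
    exact h.feas hps ht _ hlt
  · obtain ⟨j, hj, hj1, hj2⟩ := exists_two_point A (card_dvd A ho) a b hb.symm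
    rw [List.any_eq_true]
    refine ⟨j, hjs j hj, bandI (beqI (Nat.mod_eq_zero_of_dvd hj1)) (bandI (beqI ?_) ?_)⟩
    · rw [h6, hj2]; exact Nat.mul_mod_right _ _
    · rw [h6, hj2, Nat.mul_div_cancel_left _ (by omega)]
      refine h.feas hps ht _ (lt_of_le_of_lt ?_ hlt)
      exact Subgroup.card_le_of_le inf_le_left

theorem out_eq {X Y : Type*} [Group X] [Group Y] (e : X ≃* Y) {n : ℕ} (h : Nat.card (Cfsg.Out Y) = n) :
    (MulAut.conj : X →* MulAut X).range.index = n := by
  have h1 : (MulAut.conj : Y →* MulAut Y).range =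
      (MulAut.conj : X →* MulAut X).range.map (MulAut.congr e).toMonoidHom := by
    ext f
    constructor
    · rintro ⟨y, rfl⟩
      refine ⟨MulAut.conj (e.symm y), ⟨_, rfl⟩, ?_⟩
      ext z
      show e (e.symm y * e.symm z * (e.symm y)⁻¹) = y * z * y⁻¹
      simp
    · rintro ⟨_, ⟨x, rfl⟩, rfl⟩
      refine ⟨e x, ?_⟩
      ext z
      show e x * z * (e x)⁻¹ = e (x * e.symm z * x⁻¹)
      simp
  have h2 : (MulAut.conj : X →* MulAut X).range.index = (MulAut.conj : Y →* MulAut Y).range.index := by
    rw [h1]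
    exact (Subgroup.index_map_of_bijective (f := (MulAut.congr e).toMonoidHom) (MulAut.congr e).bijective _).symm
  rw [h2]
  exact h

end Cfsg.Agent.H510.TwoStab
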