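import Cfsg.Agent.H414.RelB

/-!
# Composition factors of groups isospectral to `PSU(n, q)`: the check of the certificates (helper510, for S3631)

The unitary analogue of `H414.PslData`: `UD` : data for `PSU(n, q)`; `ldU` : the check; `GoodU` : its parts.
-/

set_option autoImplicit false

namespace Cfsg.Agent.H510.UCert

open Cfsg Cfsg.Agent.H414.Arith Cfsg.Agent.H414.LieShape Cfsg.Agent.H414.RelB

/-- the data -/
structure UD where
  n : ℕ
  q : ℕ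
  p : ℕ
  a : ℕ
  fac : List (ℕ × ℕ)
  tops : List (ℕ × ℕ)
  A : List (ℕ × ℕ)
  B : List (ℕ × RC × RC)
  ch : List (ℕ × ℕ × List (ℕ × ℕ))

/-- no duplicates, for the kernel -/
def nodupB : List ℕ → Bool
  | [] => true
  | x :: l => (l.all fun y => !(Nat.beq x y)) && nodupB l

theorem nodup_of_nodupB : ∀ {l : List ℕ}, nodupB l = true → l.Nodup
  | [], _ => List.nodup_nil
  | x :: l, h => by
    unfold nodupB at h
    rw [Bool.and_eq_true, List.all_eq_true] at h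
    rw [List.nodup_cons]
    refine ⟨fun hx => ?_, nodup_of_nodupB h.2⟩
    have h1 := h.1 x hx
    rw [Bool.not_eq_true', ← Bool.not_eq_true, Nat.beq_eq] at h1
    exact h1 rfl

/-- `v` is a prime at least 5 not dividing the order -/
def outB (D : UD) (v : ℕ) : Bool :=
  isP D.ch v && Nat.blt 4 v && !(Nat.beq v D.p) && D.fac.all fun x => !(Nat.beq x.1 v)

/-- `∏_{i < n} (q ^ (i + 1) - (-1) ^ (i + 1))` -/
def prodU (q : ℕ) : ℕ → ℕ
  | 0 => 1
  | n + 1 => prodU q n * (if Even n then q ^ (n + 1) + 1 else q ^ (n + 1) - 1)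

theorem prodU_eq (q n : ℕ) :
    prodU q n = ∏ i ∈ Finset.range n, (if Even i then q ^ (i + 1) + 1 else q ^ (i + 1) - 1) := by
  induction n with
  | zero => rfl
  | succ n ih => rw [Finset.prod_range_succ, ← ih]; rfl

/-- the kernel form of `prodU` -/
def prodV (q : ℕ) : ℕ → ℕ
  | 0 => 1
  | n + 1 => prodV q n * (bif Nat.beq (n % 2) 0 then q ^ (n + 1) + 1 else q ^ (n + 1) - 1)

theorem prodV_eq (q n : ℕ) : prodV q n = prodU q n := by
  induction n with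
  | zero => rfl
  | succ n ih =>
    rw [prodV, prodU, ih]
    congr 1
    by_cases h : Even n
    · rw [if_pos h, Nat.even_iff.1 h]
      rfl
    · rw [if_neg h, Nat.odd_iff.1 (Nat.not_even_iff_odd.1 h)]
      rfl

/-- `(k, u)` : `u` is a prime, `k` the order of `-q` modulo `u`, `n / 2 < k ≤ n` -/
def topU (D : UD) (x : ℕ × ℕ) : Bool :=
  isP D.ch x.2 && Nat.blt 4 x.2 && Nat.blt 1 x.1 && Nat.ble x.1 D.n && Nat.blt D.n (2 * x.1) &&
    Nat.beq (pe x.2 (x.2 - D.q % x.2) x.1) 1 &&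
    (List.range x.1).all fun j => Nat.beq j 0 || !(Nat.beq (pe x.2 (x.2 - D.q % x.2) j) 1)

/-- the check for a relation -/
def rcB (D : UD) (r : ℕ) (c : RC) : Bool :=
  !(Nat.beq c.u r) && outB D c.v && (D.tops.any fun x => Nat.beq x.2 c.u) && relB D.ch r c &&
    nodupB (c.ls.map Prod.fst)

/-- the check -/
def ldU (D : UD) : Bool :=
  chainB [] D.ch && isP D.ch D.p && Nat.blt 0 D.a && Nat.beq (D.p ^ D.a) D.q && Nat.blt 2 D.n &&
  (D.fac.all fun x => isP D.ch x.1) && Nat.beq (prodl D.fac) (prodV D.q D.n) &&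
  (D.tops.all (topU D)) && nodupB (D.tops.map Prod.fst) && Nat.blt 2 D.tops.length &&
  (D.fac.all fun x => (D.A.any fun y => Nat.beq x.1 y.1) ||
    (D.B.any fun y => Nat.beq x.1 y.1)) &&
  (D.A.all fun y => Nat.blt 4 y.1 && outB D y.2 && Nat.beq ((y.1 ^ 2 - 1) % y.2) 0) &&
  (D.B.all fun y => !(Nat.beq y.2.1.u y.2.2.u) && rcB D y.1 y.2.1 && rcB D y.1 y.2.2)

/-- the parts of the check -/
structure GoodU (D : UD) : Prop where
  ch : chainB [] D.ch = true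
  p : D.p.Prime
  a : 0 < D.a
  q : D.p ^ D.a = D.q
  n : 2 < D.n
  fac : ∀ x ∈ D.fac, (x.1).Prime
  prod : prodl D.fac = prodU D.q D.n
  tops : ∀ x ∈ D.tops, topU D x = true
  nd : (D.tops.map Prod.fst).Nodup
  len : 2 < D.tops.length
  cover : ∀ x ∈ D.fac, (∃ y ∈ D.A, x.1 = y.1) ∨ ∃ y ∈ D.B, x.1 = y.1
  hA : ∀ y ∈ D.A, 4 < y.1 ∧ outB D y.2 = true ∧ y.2 ∣ y.1 ^ 2 - 1
  hB : ∀ y ∈ D.B, y.2.1.u ≠ y.2.2.u ∧ rcB D y.1 y.2.1 = true ∧ rcB D y.1 y.2.2 = true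

theorem good_of_ldU {D : UD} (h : ldU D = true) : GoodU D := by
  unfold ldU at h
  simp only [Bool.and_eq_true, Nat.blt_eq, Nat.beq_eq, List.all_eq_true, Bool.or_eq_true, Bool.not_eq_true',
    ← Bool.not_eq_true, List.any_eq_true, prodV_eq] at h
  obtain ⟨⟨⟨⟨⟨⟨⟨⟨⟨⟨⟨⟨h1, h2⟩, h3⟩, h4⟩, h5⟩, h6⟩, h7⟩, h8⟩, h9⟩, h10⟩, h11⟩, h12⟩, h13⟩ := h
  refine ⟨h1, prime_of_isP h1 h2, h3, h4, h5, fun x hx => prime_of_isP h1 (h6 x hx), h7, h8, nodup_of_nodupB h9, h10,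
    h11, ?_, ?_⟩
  · intro y hy
    obtain ⟨⟨a1, a2⟩, a3⟩ := h12 y hy
    exact ⟨a1, a2, Nat.dvd_of_mod_eq_zero a3⟩
  · intro y hy
    obtain ⟨⟨a1, a2⟩, a3⟩ := h13 y hy
    exact ⟨a1, a2, a3⟩

end Cfsg.Agent.H510.UCert
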